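import Cfsg.Agent.Mrg.Omega.NOThreeL.RRed.QFr.Zj
import Cfsg.Agent.Mrg.Omega.OM.SwapV.Torus.Main
import Cfsg.Agent.Mrg.Omega.OM.SwapV.Q.Neg
import Cfsg.Agent.Mrg.Omega.NOThreeL.RRed.WideTree
import Cfsg.Agent.Mrg.Omega.OM.SwapT.Frame


/-!
# NO-3L, box R, natural blocks, `q ≥ 4` : the frame at the top level `(Q, V*)`, `Q = C_S(V*)`

`TopH S` : `Q` is weakly closed in `S` and `Ω₁Z(Q) = V*`; `K₀ := Q` is a level in the sense of `OM/SwapT`:
`J := nxt S Q`, `Z_J = ZT S Q = C_{V*}(J)`, `B = BT S Q = C_S(Z_J)`.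

* `wd_sup` : `V* = ⟨V_P : P ∈ P*(S)⟩`;
* `lvQ_top` : 461's level data for `X = V*`, `AA = bo S V*`, `J = nxt S Q`;
* **`exists_top`** : the frame `TopQ` at `(Q, V*)` (`FrL`, `low`, `noff`, `perm`, `Cor`).
-/

set_option autoImplicit false
set_option linter.unusedSectionVars false

namespace Cfsg.Agent.Omega.NOThreeL.RRed.QFr.Top

open Subgroup Cfsg Cfsg.Agent.ZN.ChoiceBase Cfsg.Agent.Omega.MinPar
open Cfsg.Agent.ZN (zc zl o2 jj)
open Cfsg.Agent.Omega.SQ1.Bau (elem_comm elem_sq)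
open Cfsg.Agent.Omega.FFThm (ElemM OffM)
open Cfsg.Agent.Omega.NO3S.OneLine (BFam bo bo_fam bo_eq)
open Cfsg.Agent.Omega.NO3S.Level (nxt)
open Cfsg.Agent.Omega.OM.SwapT (ZT BT)
open Cfsg.Agent.Omega.OM.Lev.Uni (FrL)
open Cfsg.Agent.Omega.OM.WeakCl (WC)
open Cfsg.Agent.Omega.OM.SwapV.Q (Cor)
open Cfsg.Agent.Omega.NOThreeL.RTree
open Cfsg.Agent.Omega.NOThreeL.Merge (MZ)
open Cfsg.Agent.Omega.NOThreeL.RRed.WideTree (NBs Src Act)
open Cfsg.Agent.Omega.NOThreeL.RRed.BFr.StageQ (W_elem mv_of W_le_Q)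

universe u

variable {G : Type u} [Group G] [Finite G] {S : Sylow 2 G}

/-- `Q = C_S(V*)` -/
abbrev Qv (S : Sylow 2 G) : Subgroup G := (S : Subgroup G) ⊓ centralizer (Wd (S : Subgroup G) : Set G)

/-- The top level. -/
structure TopH (S : Sylow 2 G) : Prop where
  wc : NO3b.Wc.WC (S : Subgroup G) (Qv S)
  zc : zc (Qv S) = Wd (S : Subgroup G)

/-- **The frame at the top level `(Q, V*)`.** -/
structure TopQ {ι : Type} (S : Sylow 2 G) (L W Z C A : ι → Subgroup G) (q : ℕ) : Prop where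
  fr : FrL (BT (S : Subgroup G) (Qv S)) (Qv S) (Wd (S : Subgroup G)) (Wd (S : Subgroup G)) (ZT (S : Subgroup G) (Qv S))
    L W Z C A q
  LM : ∀ i, L i ≤ MZ (S : Subgroup G)
  low : Wd (S : Subgroup G) ≤ o2 (centralizer (zc (S : Subgroup G) : Set G))
  noff : ∀ T : Subgroup G, IsPGroup 2 T → BT (S : Subgroup G) (Qv S) ≤ T → ∀ f : G, cj f (Wd (S : Subgroup G)) ≤ T →
    Wd (S : Subgroup G) ≤ cj f T → ∀ x ∈ Wd (S : Subgroup G), ∀ y ∈ Wd (S : Subgroup G),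
      x * (f * y * f⁻¹) = f * y * f⁻¹ * x
  perm : ∀ s ∈ (S : Subgroup G), ∀ i j, cj s (Z i) = Z j → cj s (W i) = W j ∧ cj s (C i) = C j
  co : ∀ i, ∃ (F : Type) (_ : Field F) (_ : Finite F) (_ : CharP F 2), Nat.card F = q ∧
    ∃ e : G → F × F, Cor F (S : Subgroup G) (BT (S : Subgroup G) (Qv S)) L W Z i e

section sup

variable {ι : Type u} {N E D l : ι → Subgroup G} {q : ι → ℕ}

/-- **`V* = ⟨V_P : P ∈ P*(S)⟩`** -/
theorem wd_sup (h : NBs (S : Subgroup G) N E D l q) (hs : Src (S : Subgroup G) N l q) :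
    Wd (S : Subgroup G) = ⨆ P ∈ {P | IsParS (S : Subgroup G) P}, zl (S : Subgroup G) P := by
  apply le_antisymm
  · have h1 := h.dec.sup
    rw [sup_bot_eq] at h1
    rw [← h1]
    refine iSup_le fun b => ?_
    obtain ⟨P, hP, F, _, _, _, k, -, M, hb, -, ⟨j, e, -, -⟩, -⟩ := hs.mov b
    rw [e]
    exact (NO3S.KeyRad.blk_le hb j).trans (le_iSup₂ (f := fun P (_ : P ∈ {P | IsParS (S : Subgroup G) P}) =>
      zl (S : Subgroup G) P) P hP.1)
  · exact iSup₂_le fun P hP => zl_le_Wd hP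

/-- an active `P` gives an offender on `V*` -/
theorem exists_off [Nonempty ι] (hs : Src (S : Subgroup G) N l q) :
    ∃ A ≤ (S : Subgroup G), OffM (Wd (S : Subgroup G)) A := by
  obtain ⟨P, ⟨-, A, hA, hm, -⟩, -⟩ := hs.mov (Classical.arbitrary ι)
  exact ⟨A, hA, hm.off⟩

end sup

/-- `BB S V* J = BT S Q`, `Z_J = ZT S Q` -/
theorem ZJ_top (B : RB S) (h : TopH S) :
    ZJ (Wd (S : Subgroup G)) (nxt (S : Subgroup G) (Qv S)) = ZT (S : Subgroup G) (Qv S) := by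
  have hQ : Qv S ≤ nxt (S : Subgroup G) (Qv S) := NO3S.Level.le_nxt inf_le_left
  have hJS : nxt (S : Subgroup G) (Qv S) ≤ (S : Subgroup G) := NO3S.Level.nxt_le _ _
  apply le_antisymm
  · rintro v ⟨hv, hc⟩
    refine mem_zc.2 ⟨hQ (W_le_Q B hv), by rw [pow_two]; exact wsq B v hv, fun y hy => mem_centralizer_iff.1 hc y hy⟩
  · intro x hx
    have hx' := mem_zc.1 hx
    have hxQ : x ∈ Qv S := ⟨hJS hx'.1, mem_centralizer_iff.2 fun w hw => hx'.2.2 w (hQ (W_le_Q B hw))⟩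
    refine ⟨?_, mem_centralizer_iff.2 fun y hy => hx'.2.2 y hy⟩
    rw [← h.zc]
    exact mem_zc.2 ⟨hxQ, hx'.2.1, fun y hy => hx'.2.2 y (hQ hy)⟩

theorem BB_top (B : RB S) (h : TopH S) :
    BB (S : Subgroup G) (Wd (S : Subgroup G)) (nxt (S : Subgroup G) (Qv S)) = BT (S : Subgroup G) (Qv S) := by
  show (S : Subgroup G) ⊓ centralizer (ZJ (Wd (S : Subgroup G)) (nxt (S : Subgroup G) (Qv S)) : Set G) = _
  rw [ZJ_top B h]
  rfl

/-- **The level data at the top.** -/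
theorem lvQ_top {ι : Type} {N : ι → Subgroup G} (B : RB S) (hz : zc (Qv S) = Wd (S : Subgroup G))
    (hmv : ∃ A ≤ (S : Subgroup G), OffM (Wd (S : Subgroup G)) A) (hN : Wd (S : Subgroup G) ≤ ⨆ i, N i) :
    LvQ S (MZ (S : Subgroup G)) (Wd (S : Subgroup G)) N (Wd (S : Subgroup G))
      (normalizer (Wd (S : Subgroup G) : Set G)) (nxt (S : Subgroup G) (Qv S)) (bo (S : Subgroup G) (Wd (S : Subgroup G)))
    where
  ML := le_norm_Wd
  fam := bo_fam _ _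
  elX := W_elem B
  VX := le_rfl
  XS := WS B
  MX g hg x hx := (mem_normalizer_iff.1 (le_norm_Wd hg) x).1 hx
  AJ A hA := NO3S.Level.BO.le_nxt (by rw [bo_eq, hz]; exact hA)
  JS := NO3S.Level.nxt_le _ _
  Jg := by
    rw [nxt, bo_eq, hz]
    exact sup_le le_sup_right le_sup_left
  mv := by
    obtain ⟨A, hA, hoff⟩ := hmv
    obtain ⟨X, hXA, hX, hne⟩ := NO1.BestOff.exists_best hoff
    obtain ⟨i, hi⟩ := mv_of hN hne
    exact ⟨i, X, ⟨hXA.trans hA, hX.toElemM, fun Y h1 h2 => hX.max Y h2 h1⟩, hi⟩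

/-- **THE FRAME AT THE TOP LEVEL `(Q, V*)`.** -/
theorem exists_top {ι : Type} [Finite ι] {N D l C : ι → Subgroup G} {q : ℕ} (B : RB S)
    (b : Bq S (MZ (S : Subgroup G)) (Wd (S : Subgroup G)) N D l C q) (h : TopH S)
    (hmv : ∃ A ≤ (S : Subgroup G), OffM (Wd (S : Subgroup G)) A)
    (hsup : Wd (S : Subgroup G) = ⨆ P ∈ {P | IsParS (S : Subgroup G) P}, zl (S : Subgroup G) P) :
    ∃ Lb A : ι → Subgroup G, TopQ S Lb N l C A q ∧ ∀ i, A i ∈ bo (S : Subgroup G) (Wd (S : Subgroup G)) := by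
  have lv := lvQ_top B h.zc hmv b.sup
  have hL : Lq S (MZ (S : Subgroup G)) (Wd (S : Subgroup G)) N D l C q (Wd (S : Subgroup G))
      (normalizer (Wd (S : Subgroup G) : Set G)) (nxt (S : Subgroup G) (Qv S))
      (bo (S : Subgroup G) (Wd (S : Subgroup G))) := ⟨b, lv, BQ.exists_A b lv⟩
  have hzc : ZcQ (S : Subgroup G) (Wd (S : Subgroup G)) := fun x hx h2 hc => by
    rw [← h.zc]
    exact mem_zc.2 ⟨hx, h2, fun y hy => (hc y hy).symm⟩
  obtain ⟨Lb, A, h1, h2, h3, h4⟩ := exists_frL hL hzc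
  rw [BB_top B h, ZJ_top B h] at h3
  have hN : normalizer (BT (S : Subgroup G) (Qv S) : Set G) ≤ normalizer (Wd (S : Subgroup G) : Set G) := fun g hg => by
    have k1 := OM.SwapT.norm_K h.wc hg
    have k2 := NO3S.Level.normalizer_le_zc _ k1
    rwa [h.zc] at k2
  have hC : ∀ i, C i = ⨆ j : {j : ι // j ≠ i}, N j := fun i =>
    le_antisymm (b.Csup i) (iSup_le fun j => b.WjC i j (Ne.symm j.2))
  refine ⟨Lb, A, ⟨h3, h1, BFr.Noff.low B.data.toLow (fun P hP => hP) hsup, fun T hT hB f k1 k2 x hx y hy => ?_, ?_,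
    fun i => ?_⟩, h2⟩
  · have h5 := BFr.Noff.comm_T B.data.toLow (fun P hP => hP) hsup (OM.SwapT.wc h.wc) inf_le_left hN hT hB k1 k2 hx
    exact (mem_centralizer_iff.1 h5 _ ⟨y, hy, rfl⟩).symm
  · refine BFr.DataQ.perm_of b.lN (fun i e => ?_) (fun i j hij => ?_) hC fun s hs i => ?_
    · obtain ⟨z, hz, hz1⟩ := b.exists_ne i
      rw [e, mem_bot] at hz
      exact hz1 hz
    · rw [eq_bot_iff, ← b.dir i]
      exact inf_le_inf_left _ (b.WjC i j hij)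
    · obtain ⟨j, hj, -⟩ := b.permS s hs i
      exact ⟨j, hj⟩
  · obtain ⟨F, i1, i2, i3, hF, e, he⟩ := h4 i
    rw [BB_top B h] at he
    exact ⟨F, i1, i2, i3, hF, e, he⟩

end Cfsg.Agent.Omega.NOThreeL.RRed.QFr.Top
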