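import Cfsg.Agent.Mrg.Omega.NOThreeL.RRed.QFr.Top
import Cfsg.Agent.Mrg.Omega.OM.SwapV.Q.UniK

section


/-!
# NO-3L, box R, natural blocks, `q ≥ 4` : the frame with `L i ≤ D i · C_G(Z_J)`

* `XX_le_D` : the group over the block `i` lies in `D i · C_G(Z_J)`;
* `exists_L'`, **`exists_frL'`** : 461's `exists_L`, `exists_frL` (`QFr/Frame.lean`) with this additional output;
* **`exists_top'`** : `exists_top` (`QFr/Top.lean`) with the additional output `L i ≤ D i ⊔ C_G(Z_J)`.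
-/

set_option autoImplicit false
set_option linter.unusedSectionVars false

namespace Cfsg.Agent.Omega.NOThreeL.RRed.QFr

open Subgroup Cfsg Cfsg.Agent.ZN Cfsg.Agent.ZN.ChoiceBase
open Cfsg.Agent.Lib.SL2Mat
open Cfsg.Agent.Omega.NatPair hiding cj
open Cfsg.Agent.Omega.SQ1.Bau (mem_sup_comm card_sup_comm elem_comm elem_sq mem_sup_norm)
open Cfsg.Agent.Omega.OM.Lev.Uni (Best FrL)
open Cfsg.Agent.Omega.OM.Uni (FB NX)
open Cfsg.Agent.Omega.FFThm (ElemM)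
open Cfsg.Agent.Omega.NO3S.OneLine (BFam)
open Cfsg.Agent.Omega.OM.FourF (Act)
open Cfsg.Agent.Omega.OM.SwapV.Q (CorA Cor cj_eq_of_comm)

universe u

variable {G : Type u} [Group G]

variable {ι : Type} {S : Sylow 2 G} {M V : Subgroup G} {N D l C : ι → Subgroup G} {q : ℕ} {X L J : Subgroup G}
  {AA : Set (Subgroup G)} (h : Lq S M V N D l C q X L J AA)

/-- **the group over the block `i` lies in `D i · C(Z_J)`** -/
theorem XX_le_D [Finite G] {F : Type} [Field F] (e : G → F × F) (i : ι) (c : CorA F (S : Subgroup G) (N i) (l i) e)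
    (s : SLA F (D i) (N i) e) : XX e i h ≤ D i ⊔ centralizer (ZJ V J : Set G) := by
  intro m hm
  obtain ⟨A, hA⟩ := hm.2.2.1
  obtain ⟨g, hg, hga⟩ := s.lift (ent A 0 0) (ent A 0 1) (ent A 1 0) (ent A 1 1) (det_eq A)
  have hgX : g ∈ XX e i h := D_le_XX h e i s hg
  -- `m` and `g` agree on `N i`
  have hag : ∀ v ∈ N i, g * v * g⁻¹ = m * v * m⁻¹ := by
    intro v hv
    refine c.inj _ (XX_norm h e i hgX i v hv) _ (XX_norm h e i hm i v hv) ?_
    rw [hga v hv, pv_act hA v hv]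
  have hx : g⁻¹ * m ∈ XX e i h := mul_mem (inv_mem hgX) hm
  have hc : g⁻¹ * m ∈ centralizer (ZJ V J : Set G) := by
    refine mem_centralizer_iff.2 fun z hz => (h.cent_ZJ hx.1 (fun j => XX_norm h e i hx j) (fun j => ?_) hz).symm
    by_cases hj : j = i
    · subst hj
      intro z hz
      have h1 := hag z (h.b.lN j hz)
      have h2 : m * z = g * z * g⁻¹ * m := by rw [h1]; group
      calc g⁻¹ * m * z = g⁻¹ * (m * z) := by group
        _ = g⁻¹ * (g * z * g⁻¹ * m) := by rw [h2]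
        _ = z * (g⁻¹ * m) := by group
    · exact XX_l h e i hx hj
  have h3 := mul_mem (le_sup_left (a := D i) (b := centralizer (ZJ V J : Set G)) hg)
    (le_sup_right (a := D i) (b := centralizer (ZJ V J : Set G)) hc)
  rwa [mul_inv_cancel_left] at h3

variable [Finite G] [Finite ι]
include h

/-- the block groups, inside `D i · C(Z_J)` -/
theorem exists_L' (hz : ZcQ (S : Subgroup G) V) (i : ι) : ∃ Lb : Subgroup G, Lb ≤ M ∧
    Lb ≤ D i ⊔ centralizer (ZJ V J : Set G) ∧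
    FB (BB (S : Subgroup G) V J) Lb (N i) (l i) q ∧ (∀ m ∈ Lb, ∀ z ∈ ZJ V J, z ∈ C i → m * z = z * m) ∧
    ∃ (F : Type) (_ : Field F) (_ : Finite F) (_ : CharP F 2) (e : G → F × F), Nat.card F = q ∧
      CorA F (S : Subgroup G) (N i) (l i) e ∧ ∀ a b c d : F, a * d - b * c = 1 → ∃ g ∈ Lb,
        g ∈ normalizer (N i : Set G) ∧ Act (N i) e g (fun p => (a * p.1 + b * p.2, c * p.1 + d * p.2)) ∧
          ∀ j, j ≠ i → ∀ w ∈ N j, g * w = w * g := by
  classical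
  have := Fintype.ofFinite ι
  obtain ⟨F, i1, i2, i3, e, hF, c, s⟩ := h.b.nat i
  obtain ⟨Lb, hB, hX, hFB, hcov, -⟩ := (nx h e i hF c s hz).exists_block
  rw [hF, nx_Zs] at hFB
  refine ⟨Lb, hX.trans (XX_le_M h e i), hX.trans (XX_le_D h e i c s), hFB, fun m hm z hz1 hz2 => XX_cent h e i (hX hm) hz1 hz2, F, i1, i2, i3, e, hF, c,
    fun a b c' d hd => ?_⟩
  obtain ⟨g₀, hg₀, hga⟩ := hcov (Cfsg.Agent.Lib.SL2Mat.mk a b c' d hd)
  -- correct the action on the other blocks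
  have key : ∀ t : Finset ι, i ∉ t → ∃ g ∈ Lb, (∀ v ∈ N i, pv e (g * v * g⁻¹) =
      ap (Cfsg.Agent.Lib.SL2Mat.mk a b c' d hd) (pv e v)) ∧ ∀ j ∈ t, ∀ w ∈ N j, g * w = w * g := by
    intro t
    induction t using Finset.induction_on with
    | empty => exact fun _ => ⟨g₀, hg₀, hga, fun j hj => absurd hj (Finset.notMem_empty j)⟩
    | insert j t hj ih =>
      intro hi
      obtain ⟨g, hg, h1, h2⟩ := ih fun h3 => hi (Finset.mem_insert_of_mem h3)
      have hji : j ≠ i := fun e1 => hi (e1 ▸ Finset.mem_insert_self j t)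
      obtain ⟨x, hx, -, hx2⟩ := (hX hg).2.2.2 j hji
      obtain ⟨F', _, _, _, e', hF', c2, -⟩ := h.b.nat j
      obtain ⟨m, hm⟩ := h.B_act c2 hx
      obtain ⟨A, hA, hA1, hfull⟩ := h.A_full hF' c2
      obtain ⟨y, hy, hym⟩ := hfull m
      have hyB : y ∈ BB (S : Subgroup G) V J := h.J_le_B (h.lv.AJ A hA hy)
      have hxy : ∀ w ∈ N j, g * w * g⁻¹ = y * w * y⁻¹ := by
        intro w hw
        rw [hx2 w hw]
        refine c2.inj _ (h.B_mem hx j hw) _ (h.B_mem hyB j hw) ?_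
        rw [hm w hw, hym w hw]
      refine ⟨y⁻¹ * g, mul_mem (inv_mem (hB hyB)) hg, fun v hv => ?_, fun k hk w hw => ?_⟩
      · have h3 : y⁻¹ * g * v * (y⁻¹ * g)⁻¹ = g * v * g⁻¹ := by
          have h4 := XX_norm h e i (hX hg) i v hv
          have h5 := mem_centralizer_iff.1 (hA1 i (Ne.symm hji) hy) _ h4
          calc y⁻¹ * g * v * (y⁻¹ * g)⁻¹ = y⁻¹ * ((g * v * g⁻¹) * y) := by group
            _ = y⁻¹ * (y * (g * v * g⁻¹)) := by rw [h5]
            _ = g * v * g⁻¹ := by group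
        rw [h3]
        exact h1 v hv
      · rcases Finset.mem_insert.1 hk with rfl | hk'
        · have h3 := hxy w hw
          have h4 : g * w = y * w * y⁻¹ * g := by rw [← h3]; group
          calc y⁻¹ * g * w = y⁻¹ * (g * w) := by group
            _ = y⁻¹ * (y * w * y⁻¹ * g) := by rw [h4]
            _ = w * (y⁻¹ * g) := by group
        · by_cases hkj : k = j
          · subst hkj
            have h3 := hxy w hw
            have h4 : g * w = y * w * y⁻¹ * g := by rw [← h3]; group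
            calc y⁻¹ * g * w = y⁻¹ * (g * w) := by group
              _ = y⁻¹ * (y * w * y⁻¹ * g) := by rw [h4]
              _ = w * (y⁻¹ * g) := by group
          · have h3 : Commute g w := h2 k hk' w hw
            have h4 : Commute y w := (mem_centralizer_iff.1 (hA1 k hkj hy) w hw).symm
            exact (h4.inv_left.mul_left h3).eq
  obtain ⟨g, hg, h1, h2⟩ := key (Finset.univ.erase i) (Finset.notMem_erase i _)
  refine ⟨g, hg, ?_, ?_, fun j hj => h2 j (Finset.mem_erase.2 ⟨hj, Finset.mem_univ j⟩)⟩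
  · exact mem_normalizer_iff_cj.2 (Lq.nC h.b (hX hg).1 (XX_norm h e i (hX hg) i)).1
  · have h3 := pv_act h1
    simpa [mk_00, mk_01, mk_10, mk_11] using h3

/-- **THE FRAME OVER `B`**, `L i ≤ D i · C(Z_J)`. -/
theorem exists_frL' (hz : ZcQ (S : Subgroup G) V) : ∃ Lb A : ι → Subgroup G, (∀ i, Lb i ≤ M) ∧ (∀ i, A i ∈ AA) ∧
    (∀ i, Lb i ≤ D i ⊔ centralizer (ZJ V J : Set G)) ∧
    FrL (BB (S : Subgroup G) V J) ((S : Subgroup G) ⊓ centralizer (V : Set G)) V X (ZJ V J) Lb N l C A q ∧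
    ∀ i, ∃ (F : Type) (_ : Field F) (_ : Finite F) (_ : CharP F 2), Nat.card F = q ∧
      ∃ e : G → F × F, Cor F (S : Subgroup G) (BB (S : Subgroup G) V J) Lb N l i e := by
  choose Lb hLM hLD hFB hLC hco using exists_L' h hz
  choose A hA h1 h2 h3 h4 h5 using h.exists_A
  have hfr : FrL (BB (S : Subgroup G) V J) ((S : Subgroup G) ⊓ centralizer (V : Set G)) V X (ZJ V J) Lb N l C A q :=
    { blk := hFB
      cardZ := h.b.card_l
      QB := h.Q_le_B
      VQ := fun v hv => ⟨h.b.VS hv, mem_centralizer_iff.2 fun u hu => h.b.Vc hu hv⟩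
      elX := h.lv.elX
      VX := h.lv.VX
      mem_Q := fun x hx => ⟨fun hq v hv => (mem_centralizer_iff.1 hq.2 v hv).symm, fun hc =>
        ⟨(Lq.mem_BB.1 hx).1, mem_centralizer_iff.2 fun v hv => (hc v hv).symm⟩⟩
      zcQ := hz
      mem_ZJ := fun v => ⟨fun hv => ⟨(Lq.mem_ZJ.1 hv).1, fun x hx => (Lq.mem_BB.1 hx).2 v hv⟩, fun hv =>
        Lq.mem_ZJ.2 ⟨hv.1, fun y hy => hv.2 y (h.J_le_B hy)⟩⟩
      LV := fun i m hm v hv => h.b.MV m (hLM i hm) v hv
      LQ := fun i m hm x hx => by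
        have hmM := hLM i hm
        refine ⟨h.b.MQ m hmM x hx, mem_centralizer_iff.2 fun v hv => ?_⟩
        have h6 := mem_centralizer_iff.1 hx.2 (m⁻¹ * v * m) (by simpa using h.b.MV m⁻¹ (inv_mem hmM) v hv)
        calc v * (m * x * m⁻¹) = m * ((m⁻¹ * v * m) * x) * m⁻¹ := by group
          _ = m * x * m⁻¹ * v := by rw [h6]; group
      LX := fun i m hm x hx => h.lv.MX m (hLM i hm) x hx
      WV := h.b.NV
      CV := h.b.CV
      WC := h.b.WC
      dir := h.b.dir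
      C0 := h.b.C0
      WjC := h.b.WjC
      BC := fun i x hx c hc => h.B_memC hx i hc
      LC := fun i m hm z hz1 hz2 => hLC i m hm z hz1 hz2
      AB := fun i a ha => h.J_le_B (h.lv.AJ _ (hA i) ha)
      AX := fun i => h.lv.fam.elem _ (hA i)
      best := fun i => h.lv.fam.best _ (hA i)
      Ane := fun i hcon => by
        obtain ⟨F, _, _, _, e, hF, c, -⟩ := h.b.nat i
        obtain ⟨a, ha, hm⟩ := c.full_of (h.AS (hA i)) (h4 i) (h3 i) (by rw [hF]; exact h5 i) 1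
        obtain ⟨v, hv, hve⟩ := c.surj (0, 1)
        have h6 := c.mem_of_fix one_ne_zero hm hv (hcon a ha v hv)
        have h7 := ((c.memZ v).1 h6).2
        rw [hve] at h7
        exact one_ne_zero h7
      AC := fun i a ha c hc => h2 i a ha c hc }
  refine ⟨Lb, A, hLM, hA, hLD, hfr, fun i => ?_⟩
  obtain ⟨F, i1, i2, i3, e, hF, c, hsl⟩ := hco i
  refine ⟨F, i1, i2, i3, hF, e, c.cor (fun x hx => (Lq.mem_BB.1 hx).1) (hfr.AB i)
    (fun x hx z hz1 => (Lq.mem_BB.1 hx).2 z (h.l_ZJ i hz1)) (fun v hv hv1 z hz1 => ?_) hsl⟩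
  exact OM.SWQ.ModQ.root hfr hv hv1 hz1

end Cfsg.Agent.Omega.NOThreeL.RRed.QFr

namespace Cfsg.Agent.Omega.NOThreeL.RRed.QFr.Top

open Subgroup Cfsg Cfsg.Agent.ZN.ChoiceBase Cfsg.Agent.Omega.MinPar
open Cfsg.Agent.ZN (zc zl o2 jj)
open Cfsg.Agent.Omega.SQ1.Bau (elem_comm elem_sq)
open Cfsg.Agent.Omega.FFThm (ElemM OffM)
open Cfsg.Agent.Omega.NO3S.OneLine (BFam bo bo_fam bo_eq)
open Cfsg.Agent.Omega.NO3S.Level (nxt)
open Cfsg.Agent.Omega.OM.SwapT (ZT BT)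
open Cfsg.Agent.Omega.OM.Lev.Uni (FrL)
open Cfsg.Agent.Omega.OM.WeakCl (WC)
open Cfsg.Agent.Omega.OM.SwapV.Q (Cor)
open Cfsg.Agent.Omega.NOThreeL.RTree
open Cfsg.Agent.Omega.NOThreeL.Merge (MZ)
open Cfsg.Agent.Omega.NOThreeL.RRed.WideTree (NBs Src Act)
open Cfsg.Agent.Omega.NOThreeL.RRed.BFr.StageQ (W_elem mv_of W_le_Q)

universe u

variable {G : Type u} [Group G] [Finite G] {S : Sylow 2 G}

/-- **THE FRAME AT THE TOP LEVEL `(Q, V*)`**, `L i ≤ D i · C(Z_J)`. -/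
theorem exists_top' {ι : Type} [Finite ι] {N D l C : ι → Subgroup G} {q : ℕ} (B : RB S)
    (b : Bq S (MZ (S : Subgroup G)) (Wd (S : Subgroup G)) N D l C q) (h : TopH S)
    (hmv : ∃ A ≤ (S : Subgroup G), OffM (Wd (S : Subgroup G)) A)
    (hsup : Wd (S : Subgroup G) = ⨆ P ∈ {P | IsParS (S : Subgroup G) P}, zl (S : Subgroup G) P) :
    ∃ Lb A : ι → Subgroup G, TopQ S Lb N l C A q ∧ (∀ i, A i ∈ bo (S : Subgroup G) (Wd (S : Subgroup G))) ∧
      ∀ i, Lb i ≤ D i ⊔ centralizer (ZT (S : Subgroup G) (Qv S) : Set G) := by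
  have lv := lvQ_top B h.zc hmv b.sup
  have hL : Lq S (MZ (S : Subgroup G)) (Wd (S : Subgroup G)) N D l C q (Wd (S : Subgroup G))
      (normalizer (Wd (S : Subgroup G) : Set G)) (nxt (S : Subgroup G) (Qv S))
      (bo (S : Subgroup G) (Wd (S : Subgroup G))) := ⟨b, lv, BQ.exists_A b lv⟩
  have hzc : ZcQ (S : Subgroup G) (Wd (S : Subgroup G)) := fun x hx h2 hc => by
    rw [← h.zc]
    exact mem_zc.2 ⟨hx, h2, fun y hy => (hc y hy).symm⟩
  obtain ⟨Lb, A, h1, h2, hD, h3, h4⟩ := exists_frL' hL hzc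
  rw [BB_top B h, ZJ_top B h] at h3
  rw [ZJ_top B h] at hD
  have hN : normalizer (BT (S : Subgroup G) (Qv S) : Set G) ≤ normalizer (Wd (S : Subgroup G) : Set G) := fun g hg => by
    have k1 := OM.SwapT.norm_K h.wc hg
    have k2 := NO3S.Level.normalizer_le_zc _ k1
    rwa [h.zc] at k2
  have hC : ∀ i, C i = ⨆ j : {j : ι // j ≠ i}, N j := fun i =>
    le_antisymm (b.Csup i) (iSup_le fun j => b.WjC i j (Ne.symm j.2))
  refine ⟨Lb, A, ⟨h3, h1, BFr.Noff.low B.data.toLow (fun P hP => hP) hsup, fun T hT hB f k1 k2 x hx y hy => ?_, ?_,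
    fun i => ?_⟩, h2, hD⟩
  · have h5 := BFr.Noff.comm_T B.data.toLow (fun P hP => hP) hsup (OM.SwapT.wc h.wc) inf_le_left hN hT hB k1 k2 hx
    exact (mem_centralizer_iff.1 h5 _ ⟨y, hy, rfl⟩).symm
  · refine BFr.DataQ.perm_of b.lN (fun i e => ?_) (fun i j hij => ?_) hC fun s hs i => ?_
    · obtain ⟨z, hz, hz1⟩ := b.exists_ne i
      rw [e, mem_bot] at hz
      exact hz1 hz
    · rw [eq_bot_iff, ← b.dir i]
      exact inf_le_inf_left _ (b.WjC i j hij)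
    · obtain ⟨j, hj, -⟩ := b.permS s hs i
      exact ⟨j, hj⟩
  · obtain ⟨F, i1, i2, i3, hF, e, he⟩ := h4 i
    rw [BB_top B h] at he
    exact ⟨F, i1, i2, i3, hF, e, he⟩

end Cfsg.Agent.Omega.NOThreeL.RRed.QFr.Top

end

section


/-!
# NO-3L, box R, natural blocks, `q ≥ 4`, the top level `(Q, V*)`: the blocks over `B` which normalise `Q`

Over 461's `TopH` / `TopQ` and `KQ` (`OM/SwapV/Q/KQ.lean`), `Q = C_S(V*)`, `B = BK S Q`, `Z_J = ZK S Q`:

* `wl_of` : `Q` is a weakly closed level if `J(S) ≤ C(V*)`; `TopQ.frK`, `TopQ.nQ`;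
* `TopQ.kq_le` : `KQ ≤ X` if all `C_G(l c : c ≠ b) ≤ X`; `TopQ.kq_le8` : `KQ ≤ X` if `C_G(Z_J), L i ≤ X`, `q ≥ 8`;
* `mz_le` : `MZ S ≤ ⟨KQ, N_G(B)⟩` (helper448);
* `TopQ.blk` : a minimal parabolic `Y` over `T ≥ B` of stage `Q` which moves `Ω₁Z(T)` is generated by `T` and a block.
-/

set_option autoImplicit false
set_option linter.unusedSectionVars false

namespace Cfsg.Agent.Omega.NOThreeL.RRed.QFr.Top

open Subgroup Cfsg Cfsg.Agent.ZN.ChoiceBase Cfsg.Agent.Omega.MinPar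
open Cfsg.Agent.ZN (zc zl o2 jj)
open Cfsg.Agent.ZN.ChoiceSit (Syl)
open Cfsg.Agent.MinSimple.MinParabolic (IsMinPar)
open Cfsg.Agent.Omega.NO3S.Level (nxt Lev)
open Cfsg.Agent.Omega.OM.SwapT (ZT BT)
open Cfsg.Agent.Omega.OM.SwapK (WL BK ZK)
open Cfsg.Agent.Omega.OM.Lev.Uni (FrL)
open Cfsg.Agent.Omega.OM.UniPlus (NB)
open Cfsg.Agent.Omega.OM.SwapV.Q (Cor)
open Cfsg.Agent.Omega.OM.SwapV.Q.UniK (KQ FQ)
open Cfsg.Agent.Omega.NOThreeL.RTree
open Cfsg.Agent.Omega.NOThreeL.Merge (MZ)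
open Cfsg.Agent.Omega.NOThreeL.RRed.BFr.StageQ (M_norm)

universe u

variable {G : Type u} [Group G] [Finite G] {S : Sylow 2 G}

/-- `Q = C_S(V*)` is a weakly closed level. -/
theorem wl_of (h : TopH S) (hJ : jj (S : Subgroup G) ≤ centralizer (Wd (S : Subgroup G) : Set G)) : WL S (Qv S) where
  wc := h.wc
  lev :=
    { le := inf_le_left
      jjle := le_inf (jj_le _) hJ
      norm := fun _ h1 h2 _ hg =>
        mem_normalizer_iff_cj.2 (OM.LevD.norm_of_wc h.wc (S.isPGroup'.to_le h2) h1 hg) }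

section frame

variable {ι : Type} [Finite ι] {L N l C A : ι → Subgroup G} {q : ℕ}

omit [Finite ι] in
theorem TopQ.frK (t : TopQ S L N l C A q) (h : TopH S) :
    FrL (BK (S : Subgroup G) (Qv S)) (Qv S) (Wd (S : Subgroup G)) (zc (Qv S)) (ZK (S : Subgroup G) (Qv S))
      L N l C A q := by
  have h1 := t.fr
  rw [h.zc]
  exact h1

omit [Finite ι] in
theorem TopQ.coK (t : TopQ S L N l C A q) :
    ∀ i, ∃ (F : Type) (_ : Field F) (_ : Finite F) (_ : CharP F 2), Nat.card F = q ∧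
      ∃ e : G → F × F, Cor F (S : Subgroup G) (BK (S : Subgroup G) (Qv S)) L N l i e := t.co

omit [Finite ι] in
theorem TopQ.nQ (t : TopQ S L N l C A q) (i : ι) : L i ≤ normalizer (Qv S : Set G) := (t.LM i).trans M_norm

omit [Finite ι] in
theorem TopQ.L_le (t : TopQ S L N l C A q) (h : TopH S) (wl : WL S (Qv S)) (i : ι) :
    L i ≤ KQ (S : Subgroup G) (Qv S) := OM.SwapV.Q.UniK.L_le wl (t.frK h) t.nQ i

theorem TopQ.norm_KQ (t : TopQ S L N l C A q) (h : TopH S) (wl : WL S (Qv S)) :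
    normalizer (BK (S : Subgroup G) (Qv S) : Set G) ≤ normalizer (KQ (S : Subgroup G) (Qv S) : Set G) :=
  OM.SwapV.Q.UniK.norm_KQ wl (t.frK h) t.nQ

/-- **`KQ ≤ X`** if all `C_G(l c : c ≠ b) ≤ X`. -/
theorem TopQ.kq_le [Nonempty ι] (t : TopQ S L N l C A q) (h : TopH S) (wl : WL S (Qv S)) {X : Subgroup G}
    (hX : ∀ i, centralizer ((⨆ j : {j : ι // j ≠ i}, l j : Subgroup G) : Set G) ≤ X) :
    KQ (S : Subgroup G) (Qv S) ≤ X := by
  refine OM.SwapV.Q.UniK.KQ_le wl (t.frK h) fun i => le_trans (centralizer_le ?_) (hX i)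
  exact_mod_cast (iSup_le fun j => le_inf (t.fr.Z_le j) ((t.fr.blk j).ZV.trans (t.fr.WjC i j (Ne.symm j.2))) :
    (⨆ j : {j : ι // j ≠ i}, l j) ≤ ZK (S : Subgroup G) (Qv S) ⊓ C i)

/-- **`KQ ≤ X`** if `C_G(Z_J), L i ≤ X`, `q ≥ 8`. -/
theorem TopQ.kq_le8 (t : TopQ S L N l C A q) (h : TopH S) (wl : WL S (Qv S)) (hq : 8 ≤ q) {X : Subgroup G}
    (hD : centralizer (ZK (S : Subgroup G) (Qv S) : Set G) ≤ X) (hL : ∀ i, L i ≤ X) :
    KQ (S : Subgroup G) (Qv S) ≤ X := OM.SwapV.Q.UniK.KQ_le8 wl (t.frK h) t.coK hq hD hL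

/-- the same from groups `D i` with `L i ≤ D i ⊔ C_G(Z_J)` -/
theorem TopQ.kq_leD (t : TopQ S L N l C A q) (h : TopH S) (wl : WL S (Qv S)) (hq : 8 ≤ q) {X : Subgroup G}
    {D : ι → Subgroup G} (hLD : ∀ i, L i ≤ D i ⊔ centralizer (ZK (S : Subgroup G) (Qv S) : Set G))
    (hD : centralizer (ZK (S : Subgroup G) (Qv S) : Set G) ≤ X) (hX : ∀ i, D i ≤ X) :
    KQ (S : Subgroup G) (Qv S) ≤ X :=
  t.kq_le8 h wl hq hD fun i => (hLD i).trans (sup_le (hX i) hD)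

/-- **A minimal parabolic of stage `Q` which moves `Ω₁Z(T)`.** -/
theorem TopQ.blk (t : TopQ S L N l C A q) (h : TopH S) (wl : WL S (Qv S)) {T Y : Subgroup G}
    (hT : Syl T Y) (hB : BK (S : Subgroup G) (Qv S) ≤ T) (hP : IsMinPar T Y)
    (hc : Y ⊓ centralizer (o2 Y : Set G) ≤ o2 Y) (hK : Qv S ≤ o2 Y) (hn : ¬ nxt (S : Subgroup G) (Qv S) ≤ o2 Y)
    (hZ : ¬ Y ≤ centralizer (zc T : Set G)) :
    ∃ i, ∃ L' V' : Subgroup G, L' ≤ Y ∧ Y ≤ T ⊔ L' ∧ NB (BK (S : Subgroup G) (Qv S)) L' V' (l i) q ∧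
      V' ≤ N i ⊔ ZK (S : Subgroup G) (Qv S) ∧
      (∀ z ∈ ZK (S : Subgroup G) (Qv S), z ∈ C i ↔ ∀ x ∈ L', x * z = z * x) ∧
        (q = 2 → V' = N i ∧ L' ≤ L i ⊔ centralizer ((N i ⊔ ZK (S : Subgroup G) (Qv S) : Subgroup G) : Set G)) :=
  OM.SwapV.Q.UniK.exists_blkK wl (t.frK h) hT hB hP hc hK hn hZ

end frame

/-- **`MZ S ≤ ⟨KQ, N_G(B)⟩`** (helper448): every `P ∈ P*(S)` has `Q ≤ O₂(P)`. -/
theorem mz_le (B : RB S) (wl : WL S (Qv S)) : MZ (S : Subgroup G) ≤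
    KQ (S : Subgroup G) (Qv S) ⊔ normalizer (BK (S : Subgroup G) (Qv S) : Set G) := by
  refine sSup_le fun P hP => ?_
  have hP' : IsParS (S : Subgroup G) P := hP
  have hT : Syl (S : Subgroup G) P := ⟨hP'.le, S.isPGroup', fun Q _ h2 h3 => S.3 h2 h3⟩
  refine OM.SwapV.Q.UniK.par_le wl hT inf_le_left hP'.toIsMinPar (hP'.isLoc.char2 S B.ctx.char2) ?_
    fun hc => hP'.not_zc (hc.trans (centralizer_le_normalizer _))
  exact (inf_le_inf_left _ (centralizer_le (zl_le_Wd hP'))).trans (RLev.cs_le_o2 hP')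

end Cfsg.Agent.Omega.NOThreeL.RRed.QFr.Top

end
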