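import Cfsg.Agent.Mrg.Omega.NOThreeL.RRed.QFr.Zj
import Cfsg.Agent.Mrg.Omega.OM.SwapV.Torus.Main
import Cfsg.Agent.Mrg.Omega.OM.SwapV.Q.Neg

section


/-!
# NO-3L, box R, natural blocks, `q ≥ 4` : the ground frames `LnQ` (stage `n`) and `NegQ` (stage `-1`)

`b : Bq S (MZ S) (Wd S) N D l C q`, every `N i` lies in some `V_P`, `P ∈ P*(S)`.

* `wd_eq` : `V* = ⟨V_P : P ∈ P*(S)⟩`; `perm`;
* **`exists_lnQ`** : `Stg S n`, a pure member for every block (`ex`), `ZcQ`, `le_of_cent` (`hc`) ⟹ `LnQ`;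
* **`exists_negQ`** : `J(S)` moves `V*`, the same ⟹ `NegQ`.
-/

set_option autoImplicit false
set_option linter.unusedSectionVars false

namespace Cfsg.Agent.Omega.NOThreeL.RRed.QFr

open Subgroup Cfsg Cfsg.Agent.Omega.MinPar Cfsg.Agent.Omega.Frame Cfsg.Agent.ZN.ChoiceBase
open Cfsg.Agent.ZN (jj zj bau zc zl o2)
open Cfsg.Agent.Omega.SQ1.Bau (mem_sup_comm card_sup_comm elem_comm elem_sq)
open Cfsg.Agent.Omega.FFThm (ElemM)
open Cfsg.Agent.Omega.NO3S.OneLine (BFam bo bo_fam)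
open Cfsg.Agent.Omega.NO3S.Level (lev Lev lev_isLev nxt BO)
open Cfsg.Agent.Omega.OM.SwapL (BL ZL)
open Cfsg.Agent.Omega.OM.Lev.Uni (FrL)
open Cfsg.Agent.Omega.OM.FourF (Act)
open Cfsg.Agent.Omega.OM.SwapV.Q
open Cfsg.Agent.Omega.NOThreeL.RTree
open Cfsg.Agent.Omega.NOThreeL.Merge (MZ)
open Cfsg.Agent.Omega.NOThreeL.RRed.BFr.StageQ

universe u

variable {G : Type u} [Group G] [Finite G] {S : Sylow 2 G} {ι : Type} {M V : Subgroup G}
  {N D l C : ι → Subgroup G} {q : ℕ}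

/-- **`V* = ⟨V_P⟩`.** -/
theorem wd_eq (hN : Wd (S : Subgroup G) ≤ ⨆ i, N i)
    (hP : ∀ i, ∃ P, IsParS (S : Subgroup G) P ∧ N i ≤ zl (S : Subgroup G) P) :
    Wd (S : Subgroup G) = ⨆ P ∈ {P | IsParS (S : Subgroup G) P}, zl (S : Subgroup G) P := by
  apply le_antisymm
  · refine hN.trans (iSup_le fun i => ?_)
    obtain ⟨P, h1, h2⟩ := hP i
    exact h2.trans (le_iSup₂ (f := fun P (_ : P ∈ {P | IsParS (S : Subgroup G) P}) => zl (S : Subgroup G) P) P h1)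
  · exact iSup₂_le fun P h1 => zl_le_Wd h1

omit [Finite G] in
theorem perm (b : Bq S M V N D l C q) : ∀ s ∈ (S : Subgroup G), ∀ i j, cj s (l i) = l j →
    cj s (N i) = N j ∧ cj s (C i) = C j := fun _ hs _ _ e =>
  ⟨b.cj_N hs e, b.cj_C (b.SM hs) (b.cj_N hs e)⟩

/-- **THE GROUND FRAME, stage `n`.** -/
theorem exists_lnQ [Finite ι] (B : RB S) (b : Bq S (MZ (S : Subgroup G)) (Wd (S : Subgroup G)) N D l C q)
    (hP : ∀ i, ∃ P, IsParS (S : Subgroup G) P ∧ N i ≤ zl (S : Subgroup G) P) {n : ℕ} (h : Stg S n)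
    (ex : ∀ i, ∃ A ∈ bo (S : Subgroup G) (zc (lev (S : Subgroup G) n)), ¬ A ≤ centralizer (N i : Set G) ∧
      ∀ j, j ≠ i → A ≤ centralizer (N j : Set G))
    (hz : ZcQ (S : Subgroup G) (Wd (S : Subgroup G)))
    (hc : ∀ W : Subgroup G, W ≤ zc (lev (S : Subgroup G) n) →
      (∀ w ∈ W, ∀ j ∈ lev (S : Subgroup G) (n + 1), j * w = w * j) →
      (∀ s ∈ (S : Subgroup G), ∀ w ∈ W, s * w * s⁻¹ ∈ W) → W ≤ Wd (S : Subgroup G)) :
    ∃ Lb A : ι → Subgroup G, (∀ i, Lb i ≤ MZ (S : Subgroup G)) ∧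
      (∀ i, A i ∈ bo (S : Subgroup G) (zc (lev (S : Subgroup G) n))) ∧
      LnQ S (Wd (S : Subgroup G)) ((S : Subgroup G) ⊓ centralizer (Wd (S : Subgroup G) : Set G)) n Lb N l C A q := by
  have hl : Lq S (MZ (S : Subgroup G)) (Wd (S : Subgroup G)) N D l C q (zc (lev (S : Subgroup G) n))
      (normalizer (zc (lev (S : Subgroup G) n) : Set G)) (lev (S : Subgroup G) (n + 1))
      (bo (S : Subgroup G) (zc (lev (S : Subgroup G) n))) := ⟨b, h.lvQ b.sup, ex⟩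
  obtain ⟨Lb, A, h1, h2, h3, h4⟩ := exists_frL hl hz
  have e1 : BFr.ZJ (Wd (S : Subgroup G)) (lev (S : Subgroup G) (n + 1)) = ZL (S : Subgroup G) n := h.ZJ_eq B hc
  have e2 : BB (S : Subgroup G) (Wd (S : Subgroup G)) (lev (S : Subgroup G) (n + 1)) = BL (S : Subgroup G) n := by
    rw [BB, BFr.BB, e1]; rfl
  rw [ZJ, e1, e2] at h3
  simp only [e2] at h4
  exact ⟨Lb, A, h1, h2, BFr.DataQ.lnQ_of_data B.ctx.char2 B.data.toLow (fun _ hP => hP) (wd_eq b.sup hP) h3 h.levQ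
    (perm b) h4⟩

section neg

variable {L J X : Subgroup G} {AA' : Set (Subgroup G)}

/-- a subgroup of `S` centralising the line: `|A : C_A(N i)| ≤ q` -/
theorem card_le_of_CorA {F : Type} [Field F] [Finite F] {S W Z : Subgroup G} {e : G → F × F} (c : CorA F S W Z e)
    {A : Subgroup G} (hA : A ≤ S) (hn : ∀ a ∈ A, ∀ w ∈ W, a * w * a⁻¹ ∈ W)
    (hc : ∀ a ∈ A, ∀ z ∈ Z, a * z = z * a) :
    Nat.card A ≤ Nat.card F * Nat.card ↥(A ⊓ centralizer (W : Set G)) := by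
  classical
  have h1 : ∀ a : A, ∃ m : F, Act W e a fun p => (p.1 + m * p.2, p.2) := fun a => c.up_of (hA a.2) (hc a a.2)
  choose f hf using h1
  obtain ⟨v, hv, hve⟩ := c.surj (0, 1)
  have hfv : ∀ a : A, (e ((a : G) * v * (a : G)⁻¹)).1 = f a := by
    intro a
    rw [hf a v hv, hve]
    simp
  have hadd : ∀ a b : A, f (a * b) = f a + f b := by
    intro a b
    rw [← hfv (a * b)]
    have e1 : ((a * b : A) : G) * v * ((a * b : A) : G)⁻¹ = (a : G) * ((b : G) * v * (b : G)⁻¹) * (a : G)⁻¹ := by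
      rw [Subgroup.coe_mul]; group
    rw [e1, hf a _ (hn b b.2 v hv), hf b v hv, hve]
    simp [add_comm]
  let φ : A →* Multiplicative F := MonoidHom.mk' (fun a => Multiplicative.ofAdd (f a)) (by
    intro a b
    show Multiplicative.ofAdd (f (a * b)) = _
    rw [hadd a b]
    rfl)
  have hker : Nat.card φ.ker ≤ Nat.card ↥(A ⊓ centralizer (W : Set G)) := by
    refine Nat.card_le_card_of_injective (fun a : φ.ker => (⟨(a.1 : G), a.1.2, ?_⟩ : ↥(A ⊓ centralizer (W : Set G)))) ?_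
    · refine mem_centralizer_iff.2 fun w hw => ?_
      have h0 : f a.1 = 0 := congrArg Multiplicative.toAdd (MonoidHom.mem_ker.1 a.2)
      have h2 := hf a.1 w hw
      rw [h0] at h2
      simp only [zero_mul, add_zero] at h2
      have h3 : (a.1 : G) * w * (a.1 : G)⁻¹ = w := c.inj _ (hn a.1 a.1.2 w hw) w hw h2
      exact (mul_inv_eq_iff_eq_mul.1 h3).symm
    · intro x y hxy
      have h0 : (x.1 : G) = y.1 := congrArg (fun t : ↥(A ⊓ centralizer (W : Set G)) => (t : G)) hxy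
      exact Subtype.ext (Subtype.ext h0)
  have hmul : Nat.card φ.ker * Nat.card φ.range = Nat.card A := by
    rw [← Subgroup.index_ker, Subgroup.card_mul_index]
  have hF : Finite (Multiplicative F) := inferInstanceAs (Finite F)
  have hr : Nat.card φ.range ≤ Nat.card F := Subgroup.card_le_card_group φ.range
  calc Nat.card A = Nat.card φ.ker * Nat.card φ.range := hmul.symm
    _ ≤ Nat.card ↥(A ⊓ centralizer (W : Set G)) * Nat.card F := Nat.mul_le_mul hker hr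
    _ = _ := Nat.mul_comm _ _

/-- **a pure member `A` of a family of best offenders on `V`: another member centralises `V`.** -/
theorem Lq.exists_cent (h : Lq S M V N D l C q X L J AA') (hf : BFam (S : Subgroup G) V L AA') (i : ι) :
    ∃ A ∈ AA', A ≤ centralizer (V : Set G) := by
  obtain ⟨A, hA, h1, h2, h3, h4, h5⟩ := h.exists_A i
  obtain ⟨F, _, _, _, e, hF, c, -⟩ := h.b.nat i
  have hAC : A ⊓ centralizer (N i : Set G) ≤ centralizer (V : Set G) := by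
    rintro a ⟨ha, hc⟩
    refine mem_centralizer_iff.2 fun v hv => (h.b.cent_V (fun j w hw => ?_) v hv).symm
    by_cases hj : j = i
    · subst hj; exact (mem_centralizer_iff.1 hc w hw).symm
    · exact (mem_centralizer_iff.1 (h1 j hj ha) w hw).symm
  set A₁ := A ⊓ centralizer (V : Set G) with hA₁
  have k1 : Nat.card A ≤ q * Nat.card A₁ := by
    have := card_le_of_CorA c (h.AS hA) h4 h3
    rw [hF] at this
    exact this.trans (Nat.mul_le_mul_left _ (card_le_of_le (le_inf inf_le_left hAC)))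
  -- `q |C_V(A)| ≤ |V|`
  set Y := V ⊓ centralizer (A : Set G) with hY
  have k2 : Nat.card ↥(N i ⊓ Y) ≤ q := by
    rw [← h.b.card_l i]
    refine card_le_of_le fun w hw => ?_
    exact h.fix_l hA h3 h4 h5 hw.1 fun a ha => mem_centralizer_iff.1 hw.2.2 a ha
  have k3 : q * Nat.card Y ≤ Nat.card V := by
    have e1 := card_sup_comm (A := N i) (B := Y) fun x hx y hy => h.b.Vc (h.b.NV i hx) hy.1
    have e2 : Nat.card ↥(N i ⊔ Y) ≤ Nat.card V := card_le_of_le (sup_le (h.b.NV i) inf_le_left)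
    have hq : 0 < q := by have := h.b.q4; omega
    refine Nat.le_of_mul_le_mul_left ?_ hq
    calc q * (q * Nat.card Y) = Nat.card (N i) * Nat.card Y := by rw [h.b.card_N i]; ring
      _ = Nat.card ↥(N i ⊔ Y) * Nat.card ↥(N i ⊓ Y) := by rw [e1]
      _ ≤ Nat.card V * q := Nat.mul_le_mul e2 k2
      _ = _ := Nat.mul_comm _ _
  have h6 := hf.best A hA A₁ le_rfl inf_le_left
  have h7 : V ⊓ centralizer (A₁ : Set G) = V :=
    inf_eq_left.2 fun v hv => mem_centralizer_iff.2 fun x hx => (mem_centralizer_iff.1 hx.2 v hv).symm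
  rw [h7] at h6
  have h8 : Nat.card A * Nat.card Y ≤ Nat.card A₁ * Nat.card V := by
    calc Nat.card A * Nat.card Y ≤ q * Nat.card A₁ * Nat.card Y := Nat.mul_le_mul_right _ k1
      _ = Nat.card A₁ * (q * Nat.card Y) := by ring
      _ ≤ _ := Nat.mul_le_mul_left _ k3
  obtain ⟨A', hA', hAe⟩ := hf.cut A hA A₁ le_rfl inf_le_left (by rw [h7]; exact le_antisymm h6 h8)
  exact ⟨A', hA', (le_sup_left.trans hAe.le).trans (sup_le inf_le_right le_rfl)⟩

/-- **THE GROUND FRAME, stage `-1`.** -/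
theorem exists_negQ [Finite ι] (B : RB S) (b : Bq S (MZ (S : Subgroup G)) (Wd (S : Subgroup G)) N D l C q)
    (hP : ∀ i, ∃ P, IsParS (S : Subgroup G) P ∧ N i ≤ zl (S : Subgroup G) P)
    (hj : ¬ jj (S : Subgroup G) ≤ centralizer (Wd (S : Subgroup G) : Set G))
    (ex : ∀ i, ∃ A ∈ AA (S : Subgroup G), ¬ A ≤ centralizer (N i : Set G) ∧
      ∀ j, j ≠ i → A ≤ centralizer (N j : Set G))
    (hz : ZcQ (S : Subgroup G) (Wd (S : Subgroup G)))
    (hc : ∀ W : Subgroup G, W ≤ zc (jj ((S : Subgroup G) ⊓ centralizer (Wd (S : Subgroup G) : Set G))) →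
      (∀ w ∈ W, ∀ j ∈ jj (S : Subgroup G), j * w = w * j) →
      (∀ s ∈ (S : Subgroup G), ∀ w ∈ W, s * w * s⁻¹ ∈ W) → W ≤ Wd (S : Subgroup G)) :
    ∃ Lb A : ι → Subgroup G, (∀ i, Lb i ≤ MZ (S : Subgroup G)) ∧ (∀ i, A i ∈ AA (S : Subgroup G)) ∧
      NegQ S (Wd (S : Subgroup G)) ((S : Subgroup G) ⊓ centralizer (Wd (S : Subgroup G) : Set G)) Lb N l C A q := by
  have hl : Lq S (MZ (S : Subgroup G)) (Wd (S : Subgroup G)) N D l C q
      (zc (jj ((S : Subgroup G) ⊓ centralizer (Wd (S : Subgroup G) : Set G)))) ⊤ (jj (S : Subgroup G))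
      (AA (S : Subgroup G)) := ⟨b, lvQ_neg B hj b.sup, ex⟩
  obtain ⟨i₀, -⟩ := hl.lv.mv
  have hfV : BFam (S : Subgroup G) (Wd (S : Subgroup G)) ⊤ (AA (S : Subgroup G)) := by
    have h1 := NO3S.Level.bfam_AA (S := S) (L := (⊤ : Subgroup G)) (W_elem B) (WS B)
    exact ⟨h1.le, h1.elem, h1.best, h1.cut, h1.conj⟩
  obtain ⟨A₀, hA₀, hA₀c⟩ := hl.exists_cent hfV i₀
  obtain ⟨Lb, A, h1, h2, h3, h4⟩ := exists_frL hl hz
  have e1 : BFr.ZJ (Wd (S : Subgroup G)) (jj (S : Subgroup G)) = zj (S : Subgroup G) :=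
    ZJ_neg B ⟨A₀, hA₀, le_inf hA₀.2.1 hA₀c⟩ hc
  have e2 : BB (S : Subgroup G) (Wd (S : Subgroup G)) (jj (S : Subgroup G)) = bau (S : Subgroup G) := by
    rw [BB, BFr.BB, e1]; rfl
  rw [ZJ, e1, e2] at h3
  simp only [e2] at h4
  have hfr : OM.Uni.Fr (bau (S : Subgroup G)) ((S : Subgroup G) ⊓ centralizer (Wd (S : Subgroup G) : Set G))
      (Wd (S : Subgroup G)) (zj (S : Subgroup G)) Lb N l C A q (mm (S : Subgroup G)) :=
    { max := OM.Uni.mx_sylow S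
      blk := h3.blk
      cardZ := h3.cardZ
      QB := h3.QB
      VQ := h3.VQ
      el := W_elem B
      mem_Q := h3.mem_Q
      zcQ := h3.zcQ
      mem_ZJ := h3.mem_ZJ
      LV := h3.LV
      LQ := h3.LQ
      WV := h3.WV
      CV := h3.CV
      WC := h3.WC
      dir := h3.dir
      C0 := h3.C0
      WjC := h3.WjC
      BC := h3.BC
      LC := h3.LC
      AB := h3.AB
      Ael := fun i => (h2 i).1
      Am := fun i => (mm_eq (h2 i)).symm
      Ane := h3.Ane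
      AC := h3.AC }
  exact ⟨Lb, A, h1, h2, BFr.DataQ.negQ_of_data B.ctx.char2 B.data.toLow (fun _ hP => hP) (wd_eq b.sup hP) hfr
    (perm b) h4⟩

end neg

end Cfsg.Agent.Omega.NOThreeL.RRed.QFr

end

section


/-!
# NO-3L, box R, natural blocks, `q ≥ 4` : `LnQ` / `NegQ` from the blocks (`Bq`) and the stage

* `lnQ_of` : stage `n`; `negQ_of` : stage `-1` (the pure members by `BQ.exists_A`, `Ω₁Z(C_S(V*)) ≤ V*` by `BQ.zcQ'`).
-/

set_option autoImplicit false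
set_option linter.unusedSectionVars false

namespace Cfsg.Agent.Omega.NOThreeL.RRed.QFr

open Subgroup Cfsg Cfsg.Agent.Omega.MinPar Cfsg.Agent.Omega.Frame Cfsg.Agent.ZN.ChoiceBase
open Cfsg.Agent.ZN (jj zj bau zc zl o2)
open Cfsg.Agent.Omega.NO3S.OneLine (bo)
open Cfsg.Agent.Omega.NO3S.Level (lev)
open Cfsg.Agent.Omega.OM.SwapV.Q
open Cfsg.Agent.Omega.NOThreeL.RTree
open Cfsg.Agent.Omega.NOThreeL.Merge (MZ)
open Cfsg.Agent.Omega.NOThreeL.RRed.BFr.StageQ (Stg)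

universe u

variable {G : Type u} [Group G] [Finite G] {S : Sylow 2 G} {ι : Type} [Finite ι] {N D l C : ι → Subgroup G} {q : ℕ}

/-- **Stage `n`.** -/
theorem lnQ_of (B : RB S) (b : Bq S (MZ (S : Subgroup G)) (Wd (S : Subgroup G)) N D l C q)
    (hP : ∀ i, ∃ P, IsParS (S : Subgroup G) P ∧ N i ≤ zl (S : Subgroup G) P) {n : ℕ} (h : Stg S n) :
    ∃ Lb A : ι → Subgroup G, (∀ i, Lb i ≤ MZ (S : Subgroup G)) ∧
      (∀ i, A i ∈ bo (S : Subgroup G) (zc (lev (S : Subgroup G) n))) ∧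
      LnQ S (Wd (S : Subgroup G)) ((S : Subgroup G) ⊓ centralizer (Wd (S : Subgroup G) : Set G)) n Lb N l C A q :=
  exists_lnQ B b hP h (BQ.exists_A b (h.lvQ b.sup))
    (BQ.zcQ' b (h.lvQ b.sup) (MinSimple.VModule.zc_le_zl _ _) h.zcQ_le)
    fun _ h1 h2 h3 => BQ.le_of_cent b (h.lvQ b.sup) (MinSimple.VModule.zc_le_zl _ _) h1 h2 h3

/-- **Stage `-1`.** -/
theorem negQ_of (B : RB S) (b : Bq S (MZ (S : Subgroup G)) (Wd (S : Subgroup G)) N D l C q)
    (hP : ∀ i, ∃ P, IsParS (S : Subgroup G) P ∧ N i ≤ zl (S : Subgroup G) P)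
    (hj : ¬ jj (S : Subgroup G) ≤ centralizer (Wd (S : Subgroup G) : Set G)) :
    ∃ Lb A : ι → Subgroup G, (∀ i, Lb i ≤ MZ (S : Subgroup G)) ∧ (∀ i, A i ∈ AA (S : Subgroup G)) ∧
      NegQ S (Wd (S : Subgroup G)) ((S : Subgroup G) ⊓ centralizer (Wd (S : Subgroup G) : Set G)) Lb N l C A q :=
  exists_negQ B b hP hj (BQ.exists_A b (BFr.StageQ.lvQ_neg B hj b.sup))
    (BQ.zcQ' b (BFr.StageQ.lvQ_neg B hj b.sup) (MinSimple.VModule.zc_le_zl _ _) fun _ hx => BFr.StageQ.le_zjQ hx)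
    fun _ h1 h2 h3 => BQ.le_of_cent b (BFr.StageQ.lvQ_neg B hj b.sup) (MinSimple.VModule.zc_le_zl _ _) h1 h2 h3

end Cfsg.Agent.Omega.NOThreeL.RRed.QFr

end
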