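import Cfsg.Agent.Mrg.Omega.OM.SwapV.Q.CorOf
import Cfsg.Agent.Mrg.Omega.OM.NX
import Cfsg.Agent.Mrg.Omega.OM.Lev.FixPt
import Cfsg.Agent.Mrg.Omega.NOThreeL.RRed.BFr.Off
import Cfsg.Agent.Mrg.Omega.NOThreeL.RRed.BFr.Cut

section


/-!
# NO-3L, box R, natural blocks, `q ≥ 4` : `Z_J = ∏ l i`, `B = C_S(Z_J)`

* `CorA.up_of`, `CorA.full_of` : a subgroup of `S` centralising the line acts by `(x + m y, y)`, all `m`;
* `Lq` : `Bq`, `LvQ` and a member of `AA` acting only on `N i`, for every `i`;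
* `Lq.mem_ZJ_iff` : `v ∈ Z_J` iff all components lie in the lines; `Lq.B_act`, `Lq.B_full` : `B` acts on `N i` as all
  `(x + m y, y)`; `Lq.syl_B` : `B` is a Sylow 2-subgroup of `C_M(Z_J)`.
-/

set_option autoImplicit false
set_option linter.unusedSectionVars false

namespace Cfsg.Agent.Omega.OM.SwapV.Q

open Subgroup Cfsg Cfsg.Agent.ZN.ChoiceBase
open Cfsg.Agent.Omega.OM.FourF (Act)

universe u

variable {G : Type u} [Group G] {F : Type} [Field F] {S W Z : Subgroup G} {e : G → F × F}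

theorem cj_eq_of_comm {t : G} {Z : Subgroup G} (h : ∀ z ∈ Z, t * z = z * t) : cj t Z = Z := by
  refine cj_eq_of_mem_normalizer (mem_normalizer_iff.2 fun x => ?_)
  constructor
  · intro hx
    rw [h x hx]
    simpa using hx
  · intro hx
    have h1 := h _ hx
    have h2 : t * x * t⁻¹ = x := by
      have h3 : t * (t * x * t⁻¹) = t * x := by rw [h1]; group
      exact mul_left_cancel h3
    rwa [h2] at hx

/-- an element of `S` centralising the line acts as `(x + m y, y)` -/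
theorem CorA.up_of (c : CorA F S W Z e) {t : G} (ht : t ∈ S) (hc : ∀ z ∈ Z, t * z = z * t) :
    ∃ m : F, Act W e t fun p => (p.1 + m * p.2, p.2) := by
  obtain ⟨s, m, hs⟩ := c.act t ht (cj_eq_of_comm hc)
  have hs1 : ∀ x, s x = x := by
    intro x
    obtain ⟨y, hy, hye⟩ := c.surj (x, 0)
    have hyZ : y ∈ Z := (c.memZ y).2 ⟨hy, by rw [hye]⟩
    have h1 := hs y hy
    have h2 : t * y * t⁻¹ = y := by rw [hc y hyZ]; group
    rw [h2, hye] at h1
    have h3 := congrArg Prod.fst h1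
    simp only [map_zero, mul_zero, add_zero] at h3
    exact h3.symm
  refine ⟨m, fun w hw => ?_⟩
  rw [hs w hw]
  simp only [hs1]

/-- `|A : C_A(W)| ≥ |F|` : all `m` occur -/
theorem CorA.full_of [Finite G] [Finite F] (c : CorA F S W Z e) {A : Subgroup G} (hA : A ≤ S)
    (hn : ∀ a ∈ A, ∀ w ∈ W, a * w * a⁻¹ ∈ W) (hc : ∀ a ∈ A, ∀ z ∈ Z, a * z = z * a)
    (hq : Nat.card F * Nat.card ↥(A ⊓ centralizer (W : Set G)) ≤ Nat.card A) (m : F) :
    ∃ a ∈ A, Act W e a fun p => (p.1 + m * p.2, p.2) := by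
  classical
  have h1 : ∀ a : A, ∃ m : F, Act W e a fun p => (p.1 + m * p.2, p.2) := fun a => c.up_of (hA a.2) (hc a a.2)
  choose f hf using h1
  obtain ⟨v, hv, hve⟩ := c.surj (0, 1)
  have hfv : ∀ a : A, (e ((a : G) * v * (a : G)⁻¹)).1 = f a := by
    intro a
    rw [hf a v hv, hve]
    simp
  have hadd : ∀ a b : A, f (a * b) = f a + f b := by
    intro a b
    rw [← hfv (a * b)]
    have e1 : ((a * b : A) : G) * v * ((a * b : A) : G)⁻¹ = (a : G) * ((b : G) * v * (b : G)⁻¹) * (a : G)⁻¹ := by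
      rw [Subgroup.coe_mul]; group
    rw [e1, hf a _ (hn b b.2 v hv), hf b v hv, hve]
    simp [add_comm]
  let φ : A →* Multiplicative F := MonoidHom.mk' (fun a => Multiplicative.ofAdd (f a)) (by
    intro a b
    show Multiplicative.ofAdd (f (a * b)) = _
    rw [hadd a b]
    rfl)
  have hker : Nat.card φ.ker ≤ Nat.card ↥(A ⊓ centralizer (W : Set G)) := by
    refine Nat.card_le_card_of_injective (fun a : φ.ker => (⟨(a.1 : G), a.1.2, ?_⟩ : ↥(A ⊓ centralizer (W : Set G)))) ?_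
    · refine mem_centralizer_iff.2 fun w hw => ?_
      have h0 : f a.1 = 0 := congrArg Multiplicative.toAdd (MonoidHom.mem_ker.1 a.2)
      have h2 := hf a.1 w hw
      rw [h0] at h2
      simp only [zero_mul, add_zero] at h2
      have h3 : (a.1 : G) * w * (a.1 : G)⁻¹ = w := c.inj _ (hn a.1 a.1.2 w hw) w hw h2
      exact (mul_inv_eq_iff_eq_mul.1 h3).symm
    · intro x y hxy
      have h0 : (x.1 : G) = y.1 := congrArg (fun t : ↥(A ⊓ centralizer (W : Set G)) => (t : G)) hxy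
      exact Subtype.ext (Subtype.ext h0)
  have hmul : Nat.card φ.ker * Nat.card φ.range = Nat.card A := by
    rw [← Subgroup.index_ker, Subgroup.card_mul_index]
  have hp : 0 < Nat.card ↥(A ⊓ centralizer (W : Set G)) := Nat.card_pos
  have hr : Nat.card F ≤ Nat.card φ.range := by
    refine Nat.le_of_mul_le_mul_left ?_ hp
    calc Nat.card ↥(A ⊓ centralizer (W : Set G)) * Nat.card F
        = Nat.card F * Nat.card ↥(A ⊓ centralizer (W : Set G)) := by ring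
      _ ≤ Nat.card A := hq
      _ = Nat.card φ.ker * Nat.card φ.range := hmul.symm
      _ ≤ _ := Nat.mul_le_mul_right _ hker
  have htop : φ.range = ⊤ := by
    have : Finite (Multiplicative F) := inferInstanceAs (Finite F)
    refine Subgroup.eq_top_of_card_eq _ (le_antisymm (Subgroup.card_le_card_group _) ?_)
    have e1 : Nat.card (Multiplicative F) = Nat.card F := rfl
    rw [e1]
    exact hr
  obtain ⟨a, ha⟩ : Multiplicative.ofAdd m ∈ φ.range := by rw [htop]; exact mem_top _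
  have h0 : f a = m := congrArg Multiplicative.toAdd ha
  exact ⟨a, a.2, h0 ▸ hf a⟩

/-- fixed points of an `(x + m y, y)`, `m ≠ 0` -/
theorem CorA.mem_of_fix (c : CorA F S W Z e) {t : G} {m : F} (hm : m ≠ 0)
    (h : Act W e t fun p => (p.1 + m * p.2, p.2)) {w : G} (hw : w ∈ W) (hf : t * w = w * t) : w ∈ Z := by
  have h1 := h w hw
  have h2 : t * w * t⁻¹ = w := by rw [hf]; group
  rw [h2] at h1
  have h3 := congrArg Prod.fst h1
  simp only at h3
  have h4 : m * (e w).2 = 0 := left_eq_add.1 h3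
  exact (c.memZ w).2 ⟨hw, (mul_eq_zero.1 h4).resolve_left hm⟩

/-- an `(x + m y, y)` centralises the line -/
theorem CorA.fix_of (c : CorA F S W Z e) {t : G} {m : F} (hn : ∀ w ∈ W, t * w * t⁻¹ ∈ W)
    (h : Act W e t fun p => (p.1 + m * p.2, p.2)) {w : G} (hw : w ∈ Z) : t * w = w * t := by
  obtain ⟨h1, h2⟩ := (c.memZ w).1 hw
  have h3 := h w h1
  have h4 : t * w * t⁻¹ = w := by
    refine c.inj _ (hn w h1) w h1 ?_
    rw [h3]
    ext
    · simp [h2]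
    · rfl
  exact mul_inv_eq_iff_eq_mul.1 h4

end Cfsg.Agent.Omega.OM.SwapV.Q

namespace Cfsg.Agent.Omega.NOThreeL.RRed.QFr

open Subgroup Cfsg Cfsg.Agent.ZN Cfsg.Agent.ZN.ChoiceBase
open Cfsg.Agent.Omega.SQ1.Bau (mem_sup_comm card_sup_comm elem_comm elem_sq mem_sup_norm)
open Cfsg.Agent.Omega.OM.Lev.Uni (Best)
open Cfsg.Agent.Omega.FFThm (ElemM)
open Cfsg.Agent.Omega.NO3S.OneLine (BFam)
open Cfsg.Agent.Omega.OM.FourF (Act)
open Cfsg.Agent.Omega.OM.SwapV.Q (CorA cj_eq_of_comm)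

universe u

variable {G : Type u} [Group G]

/-- the blocks, the level and the members of `AA` acting on one block only -/
structure Lq {ι : Type} (S : Sylow 2 G) (M V : Subgroup G) (N D l C : ι → Subgroup G) (q : ℕ) (X L J : Subgroup G)
    (AA : Set (Subgroup G)) : Prop where
  b : Bq S M V N D l C q
  lv : LvQ S M V N X L J AA
  ex : ∀ i, ∃ A ∈ AA, ¬ A ≤ centralizer (N i : Set G) ∧ ∀ j, j ≠ i → A ≤ centralizer (N j : Set G)

namespace Lq

variable {ι : Type} {S : Sylow 2 G} {M V : Subgroup G} {N D l C : ι → Subgroup G} {q : ℕ} {X L J : Subgroup G}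
  {AA : Set (Subgroup G)} (h : Lq S M V N D l C q X L J AA)
include h

theorem Xc : ∀ x ∈ X, ∀ y ∈ X, x * y = y * x := elem_comm h.lv.elX

theorem AS {A : Subgroup G} (hA : A ∈ AA) : A ≤ (S : Subgroup G) := h.lv.fam.le A hA

variable [Finite G]

/-- a member of `AA` acts trivially or as a full root group -/
theorem root {A : Subgroup G} (hA : A ∈ AA) (i : ι) : A ≤ centralizer (N i : Set G) ∨
    ((∀ a ∈ A, ∀ z ∈ l i, a * z = z * a) ∧ (∀ a ∈ A, ∀ v ∈ N i, a * v * a⁻¹ * v⁻¹ ∈ l i) ∧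
      q * Nat.card ↥(A ⊓ centralizer (N i : Set G)) ≤ Nat.card A) := by
  have hcl : centralizer (X : Set G) ≤ centralizer (V : Set G) := centralizer_le h.lv.VX
  refine h.b.off A (h.AS hA) ⟨fun a ha => hcl ((h.lv.fam.elem A hA).sq a ha), fun a ha b hb =>
    hcl ((h.lv.fam.elem A hA).comm a ha b hb)⟩ (fun Y hY => ?_) i
  exact BFr.best_ineq h.Xc (h.lv.fam.best A hA) (hY.trans h.lv.VX)

/-- a member of `AA` normalises the blocks -/
theorem A_norm {A : Subgroup G} (hA : A ∈ AA) (i : ι) {a : G} (ha : a ∈ A) : ∀ v ∈ N i, a * v * a⁻¹ ∈ N i := by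
  intro v hv
  rcases h.root hA i with h1 | ⟨-, h1, -⟩
  · have h2 := mem_centralizer_iff.1 (h1 ha) v hv
    rw [← h2]
    simpa using hv
  · have h2 := mul_mem (h.b.lN i (h1 a ha v hv)) hv
    simpa using h2

theorem A_cent_l {A : Subgroup G} (hA : A ∈ AA) (i : ι) {a : G} (ha : a ∈ A) : ∀ v ∈ l i, a * v = v * a := by
  intro v hv
  rcases h.root hA i with h1 | ⟨h1, -, -⟩
  · exact (mem_centralizer_iff.1 (h1 ha) v (h.b.lN i hv)).symm
  · exact h1 a ha v hv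

omit h [Finite G] in
/-- an element of `M` which maps `N i` into itself normalises `N i` and `C i` -/
theorem nC (b : Bq S M V N D l C q) [Finite G] {g : G} (hg : g ∈ M) {i : ι} (hn : ∀ v ∈ N i, g * v * g⁻¹ ∈ N i) :
    cj g (N i) = N i ∧ cj g (C i) = C i := by
  have h1 : cj g (N i) = N i := by
    refine Subgroup.eq_of_le_of_card_ge ?_ (by rw [card_cj])
    rintro _ ⟨v, hv, rfl⟩
    exact hn v hv
  exact ⟨h1, b.cj_C hg h1⟩

omit h in
/-- an element normalising all blocks and centralising the components of `v` centralises `v` -/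
theorem cent_of (b : Bq S M V N D l C q) {g v : G} (hg : g ∈ M) (hv : v ∈ V)
    (hn : ∀ i, ∃ w ∈ N i, ∃ c ∈ C i, v = w * c ∧ g * w = w * g ∧ g * c * g⁻¹ ∈ C i) : g * v = v * g := by
  have h1 : g * v * g⁻¹ * v⁻¹ = 1 := by
    refine b.C0 _ (mul_mem (b.MV g hg v hv) (inv_mem hv)) fun i => ?_
    obtain ⟨w, hw, c, hc, rfl, h2, h3⟩ := hn i
    have e1 : g * (w * c) * g⁻¹ * (w * c)⁻¹ = w * (g * c * g⁻¹ * c⁻¹) * w⁻¹ := by
      calc g * (w * c) * g⁻¹ * (w * c)⁻¹ = (g * w) * c * g⁻¹ * c⁻¹ * w⁻¹ := by group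
        _ = (w * g) * c * g⁻¹ * c⁻¹ * w⁻¹ := by rw [h2]
        _ = _ := by group
    have h4 : g * c * g⁻¹ * c⁻¹ ∈ C i := mul_mem h3 (inv_mem hc)
    have e2 : w * (g * c * g⁻¹ * c⁻¹) * w⁻¹ = g * c * g⁻¹ * c⁻¹ := by
      rw [b.Vc (b.NV i hw) (b.CV i h4)]; group
    rw [e1, e2]
    exact h4
  exact mul_inv_eq_iff_eq_mul.1 (mul_inv_eq_one.1 h1)

omit h [Finite G] in
theorem mem_ZJ {v : G} : v ∈ ZJ V J ↔ v ∈ V ∧ ∀ y ∈ J, y * v = v * y := by
  rw [ZJ, BFr.ZJ, mem_inf, mem_centralizer_iff]; rfl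

omit h [Finite G] in
theorem mem_BB {S V J : Subgroup G} {x : G} : x ∈ BB S V J ↔ x ∈ S ∧ ∀ z ∈ ZJ V J, x * z = z * x := by
  rw [BB, BFr.BB, mem_inf, mem_centralizer_iff]
  exact and_congr_right fun _ => ⟨fun h z hz => (h z hz).symm, fun h z hz => (h z hz).symm⟩

/-- the member acting on `N i` only, in coordinates -/
theorem exists_A (i : ι) : ∃ A ∈ AA, (∀ j, j ≠ i → A ≤ centralizer (N j : Set G)) ∧
    (∀ a ∈ A, ∀ c ∈ C i, a * c = c * a) ∧ (∀ a ∈ A, ∀ z ∈ l i, a * z = z * a) ∧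
    (∀ a ∈ A, ∀ v ∈ N i, a * v * a⁻¹ ∈ N i) ∧ q * Nat.card ↥(A ⊓ centralizer (N i : Set G)) ≤ Nat.card A := by
  obtain ⟨A, hA, h1, h2⟩ := h.ex i
  rcases h.root hA i with h3 | ⟨h3, h4, h5⟩
  · exact absurd h3 h1
  refine ⟨A, hA, h2, fun a ha c hc => ?_, h3, fun a ha => h.A_norm hA i ha, h5⟩
  exact h.b.cent_C (fun j hj v hv => (mem_centralizer_iff.1 (h2 j hj ha) v hv).symm) c hc

/-- `C_(N i)(A i) = l i` -/
theorem fix_l {A : Subgroup G} (hA : A ∈ AA) {i : ι} (h3 : ∀ a ∈ A, ∀ z ∈ l i, a * z = z * a)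
    (h4 : ∀ a ∈ A, ∀ v ∈ N i, a * v * a⁻¹ ∈ N i)
    (h5 : q * Nat.card ↥(A ⊓ centralizer (N i : Set G)) ≤ Nat.card A) {w : G} (hw : w ∈ N i)
    (hf : ∀ a ∈ A, a * w = w * a) : w ∈ l i := by
  obtain ⟨F, _, _, _, e, hF, c, -⟩ := h.b.nat i
  obtain ⟨a, ha, hm⟩ := c.full_of (h.AS hA) h4 h3 (by rw [hF]; exact h5) 1
  exact c.mem_of_fix one_ne_zero hm hw (hf a ha)

/-- **`Z_J` is the product of the lines.** -/
theorem mem_ZJ_iff {v : G} (hv : v ∈ V) :
    v ∈ ZJ V J ↔ ∀ i, ∃ w ∈ l i, ∃ c ∈ C i, v = w * c := by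
  constructor
  · intro hz i
    obtain ⟨w, hw, c, hc, e⟩ := h.b.WC i v hv
    obtain ⟨A, hA, -, h2, h3, h4, h5⟩ := h.exists_A i
    refine ⟨w, h.fix_l hA h3 h4 h5 hw fun a ha => ?_, c, hc, e⟩
    have h6 := (mem_ZJ.1 hz).2 a (h.lv.AJ A hA ha)
    have h7 := h2 a ha c hc
    have e1 : w = v * c⁻¹ := by rw [e]; group
    have h8 : Commute a (v * c⁻¹) := (show Commute a v from h6).mul_right (show Commute a c from h7).inv_right
    rw [e1]
    exact h8.eq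
  · intro hl
    have key : ∀ A ∈ AA, A ≤ centralizer ({v} : Set G) := by
      intro A hA a ha
      refine mem_centralizer_singleton_iff.2 ?_
      refine cent_of h.b (h.b.SM (h.AS hA ha)) hv fun i => ?_
      obtain ⟨w, hw, c, hc, e⟩ := hl i
      have h1 := nC h.b (h.b.SM (h.AS hA ha)) (h.A_norm hA i ha)
      refine ⟨w, h.b.lN i hw, c, hc, e, h.A_cent_l hA i ha w hw, ?_⟩
      rw [← h1.2]
      exact ⟨c, hc, rfl⟩
    refine mem_ZJ.2 ⟨hv, fun y hy => ?_⟩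
    have h1 : J ≤ centralizer ({v} : Set G) := h.lv.Jg.trans (sup_le (sSup_le key) fun x hx =>
      mem_centralizer_singleton_iff.2 (mem_centralizer_iff.1 hx.2 v hv).symm)
    exact mem_centralizer_singleton_iff.1 (h1 hy)

theorem l_ZJ (i : ι) : l i ≤ ZJ V J := by
  intro z hz
  have hzN := h.b.lN i hz
  refine (h.mem_ZJ_iff (h.b.NV i hzN)).2 fun j => ?_
  by_cases hj : j = i
  · subst hj
    exact ⟨z, hz, 1, one_mem _, (mul_one z).symm⟩
  · exact ⟨1, one_mem _, z, h.b.WjC j i hj hzN, (one_mul z).symm⟩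

/-- components of elements of `Z_J` -/
theorem split_ZJ (i : ι) {z : G} (hz : z ∈ ZJ V J) : ∃ w ∈ l i, ∃ c ∈ C i, c ∈ ZJ V J ∧ z = w * c := by
  obtain ⟨w, hw, c, hc, e⟩ := (h.mem_ZJ_iff (mem_ZJ.1 hz).1).1 hz i
  refine ⟨w, hw, c, hc, ?_, e⟩
  have e1 : c = w⁻¹ * z := by rw [e]; group
  rw [e1]
  exact mul_mem (inv_mem (h.l_ZJ i hw)) hz

theorem V_le_B : V ≤ BB (S : Subgroup G) V J := fun _ hv =>
  mem_BB.2 ⟨h.b.VS hv, fun _ hz => h.b.Vc hv (mem_ZJ.1 hz).1⟩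

theorem J_le_B : J ≤ BB (S : Subgroup G) V J := fun a ha =>
  mem_BB.2 ⟨h.lv.JS ha, fun _ hz => (mem_ZJ.1 hz).2 a ha⟩

theorem Q_le_B : (S : Subgroup G) ⊓ centralizer (V : Set G) ≤ BB (S : Subgroup G) V J := fun _ hx =>
  mem_BB.2 ⟨hx.1, fun z hz => (mem_centralizer_iff.1 hx.2 z (mem_ZJ.1 hz).1).symm⟩

theorem B_le_M : BB (S : Subgroup G) V J ≤ M := fun _ hb => h.b.SM (mem_BB.1 hb).1

theorem B_norm {x : G} (hx : x ∈ BB (S : Subgroup G) V J) (i : ι) : cj x (N i) = N i ∧ cj x (C i) = C i := by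
  have h1 : cj x (l i) = l i := cj_eq_of_comm fun z hz => (mem_BB.1 hx).2 z (h.l_ZJ i hz)
  have h2 := h.b.cj_N (mem_BB.1 hx).1 h1
  exact ⟨h2, h.b.cj_C (h.B_le_M hx) h2⟩

theorem B_mem {x : G} (hx : x ∈ BB (S : Subgroup G) V J) (i : ι) {v : G} (hv : v ∈ N i) : x * v * x⁻¹ ∈ N i := by
  rw [← (h.B_norm hx i).1]
  exact ⟨v, hv, rfl⟩

theorem B_memC {x : G} (hx : x ∈ BB (S : Subgroup G) V J) (i : ι) {v : G} (hv : v ∈ C i) : x * v * x⁻¹ ∈ C i := by
  rw [← (h.B_norm hx i).2]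
  exact ⟨v, hv, rfl⟩

theorem B_act {F : Type} [Field F] {e : G → F × F} {i : ι} (c : CorA F (S : Subgroup G) (N i) (l i) e) {x : G}
    (hx : x ∈ BB (S : Subgroup G) V J) : ∃ m : F, Act (N i) e x fun p => (p.1 + m * p.2, p.2) :=
  c.up_of (mem_BB.1 hx).1 fun z hz => (mem_BB.1 hx).2 z (h.l_ZJ i hz)

/-- **the member of `AA` acting only on `N i` induces the full root group** -/
theorem A_full {F : Type} [Field F] [Finite F] {e : G → F × F} {i : ι} (hF : Nat.card F = q)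
    (c : CorA F (S : Subgroup G) (N i) (l i) e) : ∃ A ∈ AA, (∀ j, j ≠ i → A ≤ centralizer (N j : Set G)) ∧
      ∀ m : F, ∃ a ∈ A, Act (N i) e a fun p => (p.1 + m * p.2, p.2) := by
  obtain ⟨A, hA, h1, h2, h3, h4, h5⟩ := h.exists_A i
  exact ⟨A, hA, h1, c.full_of (h.AS hA) h4 h3 (by rw [hF]; exact h5)⟩

/-- an element of `M` which acts on every block as an element of `B` centralises `Z_J` -/
theorem cent_ZJ {m : G} (hm : m ∈ M) (hn : ∀ i, ∀ v ∈ N i, m * v * m⁻¹ ∈ N i) (hl : ∀ i, ∀ z ∈ l i, m * z = z * m)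
    {z : G} (hz : z ∈ ZJ V J) : m * z = z * m := by
  refine cent_of h.b hm (mem_ZJ.1 hz).1 fun i => ?_
  obtain ⟨w, hw, c, hc, -, e⟩ := h.split_ZJ i hz
  refine ⟨w, h.b.lN i hw, c, hc, e, hl i w hw, ?_⟩
  rw [← (nC h.b hm (hn i)).2]
  exact ⟨c, hc, rfl⟩

/-- `S` normalises `Z_J` -/
theorem S_ZJ {s : G} (hs : s ∈ (S : Subgroup G)) {z : G} (hz : z ∈ ZJ V J) : s * z * s⁻¹ ∈ ZJ V J := by
  have hzV := (mem_ZJ.1 hz).1
  refine (h.mem_ZJ_iff (h.b.MV s (h.b.SM hs) z hzV)).2 fun j => ?_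
  -- the index `i` with `N i = s⁻¹ N j s`
  obtain ⟨i, h1, h2, -⟩ := h.b.permS s⁻¹ (inv_mem hs) j
  have h3 : cj s (N i) = N j := by rw [← h1, cj_cj, mul_inv_cancel, cj_one]
  have h4 : cj s (l i) = l j := h.b.cj_l hs h3
  have h5 : cj s (C i) = C j := h.b.cj_C (h.b.SM hs) h3
  obtain ⟨w, hw, c, hc, -, e⟩ := h.split_ZJ i hz
  refine ⟨s * w * s⁻¹, ?_, s * c * s⁻¹, ?_, by rw [e]; group⟩
  · rw [← h4]; exact ⟨w, hw, rfl⟩
  · rw [← h5]; exact ⟨c, hc, rfl⟩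

/-- **`B` is a Sylow 2-subgroup of `C_M(Z_J)`.** -/
theorem syl_B {T : Subgroup G} (hT : IsPGroup 2 T) (hBT : BB (S : Subgroup G) V J ≤ T)
    (hTc : ∀ t ∈ T, ∀ z ∈ ZJ V J, t * z = z * t) : T = BB (S : Subgroup G) V J := by
  have hSn : (S : Subgroup G) ≤ normalizer ((centralizer (ZJ V J : Set G) : Subgroup G) : Set G) := by
    intro s hs
    have h1 : cj s (ZJ V J) = ZJ V J := by
      refine Subgroup.eq_of_le_of_card_ge ?_ (by rw [card_cj])
      rintro _ ⟨z, hz, rfl⟩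
      exact h.S_ZJ hs hz
    rw [mem_normalizer_iff_cj, cj_centralizer, h1]
  have hTK : T ≤ (S : Subgroup G) ⊔ centralizer (ZJ V J : Set G) := fun t ht =>
    mem_sup_right (mem_centralizer_iff.2 fun z hz => (hTc t ht z hz).symm)
  obtain ⟨m, hm, hmS⟩ := BFr.exists_into S le_sup_left hT hTK
  obtain ⟨s, hs, k, hk, rfl⟩ := mem_sup_norm hSn hm
  have h1 : cj k T ≤ (S : Subgroup G) := by
    have h2 := cj_mono s⁻¹ hmS
    rwa [cj_cj, ← mul_assoc, inv_mul_cancel, one_mul, cj_eq_of_mem_normalizer (le_normalizer (inv_mem hs))] at h2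
  have h2 : cj k T ≤ BB (S : Subgroup G) V J := by
    refine le_inf h1 ?_
    rintro _ ⟨t, ht, rfl⟩
    exact mul_mem (mul_mem hk (mem_centralizer_iff.2 fun z hz => (hTc t ht z hz).symm)) (inv_mem hk)
  refine (Subgroup.eq_of_le_of_card_ge hBT ?_).symm
  rw [← card_cj k T]
  exact Subgroup.card_le_of_le h2

end Lq

end Cfsg.Agent.Omega.NOThreeL.RRed.QFr

end

section


/-!
# NO-3L, box R, natural blocks, `q ≥ 4` : the frame `FrL` over `B = C_S(Z_J)`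

* `XX h e i` : the elements of `M` which act on `N i` as `SL₂(F)` and on every other block as an element of `B`;
* `nx` : `NX F B (XX h e i) (N i)`; `exists_L` : the block groups `L i`;
* **`exists_frL`** : the frame `FrL B Q V X Z_J L N l C A q`, with the coordinates `Cor`.
-/

set_option autoImplicit false
set_option linter.unusedSectionVars false

namespace Cfsg.Agent.Omega.NOThreeL.RRed.QFr

open Subgroup Cfsg Cfsg.Agent.ZN Cfsg.Agent.ZN.ChoiceBase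
open Cfsg.Agent.Lib.SL2Mat
open Cfsg.Agent.Omega.NatPair hiding cj
open Cfsg.Agent.Omega.SQ1.Bau (mem_sup_comm card_sup_comm elem_comm elem_sq mem_sup_norm)
open Cfsg.Agent.Omega.OM.Lev.Uni (Best FrL)
open Cfsg.Agent.Omega.OM.Uni (FB NX)
open Cfsg.Agent.Omega.FFThm (ElemM)
open Cfsg.Agent.Omega.NO3S.OneLine (BFam)
open Cfsg.Agent.Omega.OM.FourF (Act)
open Cfsg.Agent.Omega.OM.SwapV.Q (CorA Cor cj_eq_of_comm)

universe u

variable {G : Type u} [Group G]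

/-- the coordinates as a vector -/
def pv {F : Type} (e : G → F × F) (v : G) : Fin 2 → F := ![(e v).1, (e v).2]

section pv

variable {F : Type} [Field F] {e : G → F × F} {W : Subgroup G}

theorem pv_inj {v w : G} (h : pv e v = pv e w) : e v = e w :=
  Prod.ext (congrFun h 0) (congrFun h 1)

theorem act_pv {g : G} {a b c d : F} (hd : a * d - b * c = 1)
    (h : Act W e g fun p => (a * p.1 + b * p.2, c * p.1 + d * p.2)) :
    ∀ v ∈ W, pv e (g * v * g⁻¹) = ap (Cfsg.Agent.Lib.SL2Mat.mk a b c d hd) (pv e v) := by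
  intro v hv
  have h1 := h v hv
  apply ext2
  · rw [ap_zero', mk_00, mk_01]
    show (e (g * v * g⁻¹)).1 = a * (e v).1 + b * (e v).2
    rw [h1]
  · rw [ap_one', mk_10, mk_11]
    show (e (g * v * g⁻¹)).2 = c * (e v).1 + d * (e v).2
    rw [h1]

theorem pv_act {g : G} {A : Matrix.SpecialLinearGroup (Fin 2) F} (h : ∀ v ∈ W, pv e (g * v * g⁻¹) = ap A (pv e v)) :
    Act W e g fun p => (ent A 0 0 * p.1 + ent A 0 1 * p.2, ent A 1 0 * p.1 + ent A 1 1 * p.2) := by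
  intro v hv
  have h1 := h v hv
  have h2 := congrFun h1 0
  have h3 := congrFun h1 1
  rw [ap_zero'] at h2
  rw [ap_one'] at h3
  exact Prod.ext h2 h3

theorem up_pv {g : G} {m : F} (h : Act W e g fun p => (p.1 + m * p.2, p.2)) :
    ∀ v ∈ W, pv e (g * v * g⁻¹) = ap (up m) (pv e v) := by
  intro v hv
  have h1 := h v hv
  apply ext2
  · rw [ap_zero', up_00, up_01, one_mul]
    show (e (g * v * g⁻¹)).1 = (e v).1 + m * (e v).2
    rw [h1]
  · rw [ap_one', up_10, up_11, zero_mul, one_mul, zero_add]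
    show (e (g * v * g⁻¹)).2 = (e v).2
    rw [h1]

end pv

variable {ι : Type} {S : Sylow 2 G} {M V : Subgroup G} {N D l C : ι → Subgroup G} {q : ℕ} {X L J : Subgroup G}
  {AA : Set (Subgroup G)} (h : Lq S M V N D l C q X L J AA)

section xx

variable {F : Type} [Field F] (e : G → F × F) (i : ι)

/-- **The group over the block `i`.** -/
def XX (_ : Lq S M V N D l C q X L J AA) : Subgroup G where
  carrier := {m | m ∈ M ∧ (∀ v ∈ N i, m * v * m⁻¹ ∈ N i ∧ m⁻¹ * v * m ∈ N i) ∧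
    (∃ A : Matrix.SpecialLinearGroup (Fin 2) F, ∀ v ∈ N i, pv e (m * v * m⁻¹) = ap A (pv e v)) ∧
    ∀ j, j ≠ i → ∃ a ∈ BB (S : Subgroup G) V J, (∀ v ∈ N j, a * v * a⁻¹ ∈ N j ∧ a⁻¹ * v * a ∈ N j) ∧
      ∀ v ∈ N j, m * v * m⁻¹ = a * v * a⁻¹}
  one_mem' := by
    refine ⟨one_mem _, fun v hv => ⟨by simpa using hv, by simpa using hv⟩, ⟨1, fun v _ => ?_⟩, fun j _ =>
      ⟨1, one_mem _, fun v hv => ⟨by simpa using hv, by simpa using hv⟩, fun v _ => rfl⟩⟩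
    rw [ap_one, one_mul, inv_one, mul_one]
  mul_mem' := by
    rintro x y ⟨hx, hx1, ⟨A, hA⟩, hx3⟩ ⟨hy, hy1, ⟨A', hA'⟩, hy3⟩
    refine ⟨mul_mem hx hy, fun v hv => ⟨?_, ?_⟩, ⟨A * A', fun v hv => ?_⟩, fun j hj => ?_⟩
    · have e1 : x * y * v * (x * y)⁻¹ = x * (y * v * y⁻¹) * x⁻¹ := by group
      rw [e1]; exact (hx1 _ (hy1 v hv).1).1
    · have e1 : (x * y)⁻¹ * v * (x * y) = y⁻¹ * (x⁻¹ * v * x) * y := by group
      rw [e1]; exact (hy1 _ (hx1 v hv).2).2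
    · have e1 : x * y * v * (x * y)⁻¹ = x * (y * v * y⁻¹) * x⁻¹ := by group
      rw [e1, hA _ (hy1 v hv).1, hA' v hv, ap_mul]
    · obtain ⟨a, ha, ha1, ha2⟩ := hx3 j hj
      obtain ⟨b, hb, hb1, hb2⟩ := hy3 j hj
      refine ⟨a * b, mul_mem ha hb, fun v hv => ⟨?_, ?_⟩, fun v hv => ?_⟩
      · have e1 : a * b * v * (a * b)⁻¹ = a * (b * v * b⁻¹) * a⁻¹ := by group
        rw [e1]; exact (ha1 _ (hb1 v hv).1).1
      · have e1 : (a * b)⁻¹ * v * (a * b) = b⁻¹ * (a⁻¹ * v * a) * b := by group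
        rw [e1]; exact (hb1 _ (ha1 v hv).2).2
      · have e1 : x * y * v * (x * y)⁻¹ = x * (y * v * y⁻¹) * x⁻¹ := by group
        have e2 : a * b * v * (a * b)⁻¹ = a * (b * v * b⁻¹) * a⁻¹ := by group
        rw [e1, e2, hb2 v hv, ha2 _ (hb1 v hv).1]
  inv_mem' := by
    rintro x ⟨hx, hx1, ⟨A, hA⟩, hx3⟩
    refine ⟨inv_mem hx, fun v hv => ⟨by simpa using (hx1 v hv).2, by simpa using (hx1 v hv).1⟩,
      ⟨A⁻¹, fun v hv => ?_⟩, fun j hj => ?_⟩
    · have h1 := hA _ (hx1 v hv).2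
      have e1 : x * (x⁻¹ * v * x) * x⁻¹ = v := by group
      rw [e1] at h1
      rw [h1, ap_inv_ap, inv_inv]
    · obtain ⟨a, ha, ha1, ha2⟩ := hx3 j hj
      refine ⟨a⁻¹, inv_mem ha, fun v hv => ⟨by simpa using (ha1 v hv).2, by simpa using (ha1 v hv).1⟩, fun v hv => ?_⟩
      have h1 := ha2 _ (ha1 v hv).2
      have e1 : a * (a⁻¹ * v * a) * a⁻¹ = v := by group
      rw [e1] at h1
      have h2 : x⁻¹ * v * x = a⁻¹ * v * a := by
        calc x⁻¹ * v * x = x⁻¹ * (x * (a⁻¹ * v * a) * x⁻¹) * x := by rw [h1]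
          _ = a⁻¹ * v * a := by group
      rw [inv_inv, inv_inv]
      exact h2

theorem XX_le_M : XX e i h ≤ M := fun _ hm => hm.1

variable [Finite G]

theorem XX_norm {m : G} (hm : m ∈ XX e i h) (j : ι) : ∀ v ∈ N j, m * v * m⁻¹ ∈ N j := by
  intro v hv
  by_cases hj : j = i
  · subst hj; exact (hm.2.1 v hv).1
  · obtain ⟨a, -, ha1, ha2⟩ := hm.2.2.2 j hj
    rw [ha2 v hv]; exact (ha1 v hv).1

theorem XX_l {m : G} (hm : m ∈ XX e i h) {j : ι} (hj : j ≠ i) : ∀ z ∈ l j, m * z = z * m := by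
  intro z hz
  obtain ⟨a, ha, -, ha2⟩ := hm.2.2.2 j hj
  have h1 := ha2 z (h.b.lN j hz)
  have h2 : a * z = z * a := (Lq.mem_BB.1 ha).2 z (h.l_ZJ j hz)
  rw [h2, mul_inv_cancel_right] at h1
  exact mul_inv_eq_iff_eq_mul.1 h1

theorem B_le_XX (c : CorA F (S : Subgroup G) (N i) (l i) e) : BB (S : Subgroup G) V J ≤ XX e i h := by
  intro x hx
  have key : ∀ j, ∀ v ∈ N j, x * v * x⁻¹ ∈ N j ∧ x⁻¹ * v * x ∈ N j := fun j v hv =>
    ⟨h.B_mem hx j hv, by simpa using h.B_mem (inv_mem hx) j hv⟩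
  obtain ⟨m, hm⟩ := h.B_act c hx
  exact ⟨h.B_le_M hx, key i, ⟨up m, up_pv hm⟩, fun j _ => ⟨x, hx, key j, fun v _ => rfl⟩⟩

theorem D_le_XX (s : SLA F (D i) (N i) e) : D i ≤ XX e i h := by
  intro d hd
  refine ⟨h.b.DM i hd, fun v hv => ⟨s.nD d hd v hv, by simpa using s.nD d⁻¹ (inv_mem hd) v hv⟩, ?_, fun j hj => ?_⟩
  · obtain ⟨a, b, c, d', h1, h2⟩ := s.act d hd
    exact ⟨_, act_pv h1 h2⟩
  · refine ⟨1, one_mem _, fun v hv => ⟨by simpa using hv, by simpa using hv⟩, fun v hv => ?_⟩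
    rw [h.b.DC i d hd v (h.b.WjC i j (Ne.symm hj) hv)]
    group

/-- `XX i` centralises `Z_J ∩ C i` -/
theorem XX_cent {m : G} (hm : m ∈ XX e i h) {z : G} (hz : z ∈ ZJ V J) (hzC : z ∈ C i) : m * z = z * m := by
  refine Lq.cent_of h.b hm.1 (Lq.mem_ZJ.1 hz).1 fun j => ?_
  by_cases hj : j = i
  · subst hj
    refine ⟨1, one_mem _, z, hzC, (one_mul z).symm, by rw [mul_one, one_mul], ?_⟩
    rw [← (Lq.nC h.b hm.1 (XX_norm h e j hm j)).2]
    exact ⟨z, hzC, rfl⟩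
  · obtain ⟨w, hw, c, hc, -, e1⟩ := h.split_ZJ j hz
    refine ⟨w, h.b.lN j hw, c, hc, e1, XX_l h e i hm hj w hw, ?_⟩
    rw [← (Lq.nC h.b hm.1 (XX_norm h e i hm j)).2]
    exact ⟨c, hc, rfl⟩

theorem zj_act {m z : G} (hm : m ∈ XX e i h) (hz : z ∈ ZJ V J) : m * z * m⁻¹ * z⁻¹ ∈ N i := by
  obtain ⟨w, hw, c, hc, hcZ, rfl⟩ := h.split_ZJ i hz
  have h1 := XX_cent h e i hm hcZ hc
  have h2 := XX_norm h e i hm i w (h.b.lN i hw)
  have h3 : m * (w * c) * m⁻¹ * (w * c)⁻¹ = m * w * m⁻¹ * w⁻¹ := by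
    calc m * (w * c) * m⁻¹ * (w * c)⁻¹ = m * w * (c * m⁻¹) * c⁻¹ * w⁻¹ := by group
      _ = m * w * (m⁻¹ * c) * c⁻¹ * w⁻¹ := by
        have h4 : c * m⁻¹ = m⁻¹ * c := ((show Commute m c from h1).inv_left.eq).symm
        rw [h4]
      _ = _ := by group
  rw [h3]
  exact mul_mem h2 (inv_mem (h.b.lN i hw))

/-- `B` is a Sylow 2-subgroup of `XX i` -/
theorem syl_XX [Finite F] [CharP F 2] (hF : Nat.card F = q) (c : CorA F (S : Subgroup G) (N i) (l i) e)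
    {T : Subgroup G} (hBT : BB (S : Subgroup G) V J ≤ T) (hTX : T ≤ XX e i h) (hT : IsPGroup 2 T) :
    T = BB (S : Subgroup G) V J := by
  have : Fact (Nat.Prime 2) := ⟨Nat.prime_two⟩
  -- a common fixed vector
  have hN2 : IsPGroup 2 (N i) := S.isPGroup'.to_le ((h.b.NV i).trans h.b.VS)
  have hTn : T ≤ normalizer (N i : Set G) := fun t ht =>
    mem_normalizer_iff_cj.2 (Lq.nC h.b (hTX ht).1 (XX_norm h e i (hTX ht) i)).1
  have hne : N i ≠ ⊥ := by
    intro h0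
    have h1 := h.b.card_N i
    rw [h0, card_bot] at h1
    have := h.b.q4
    nlinarith
  have h1 := PLocal.OffenderStep.inf_centralizer_ne_bot (N i) T hN2 hT hTn hne
  obtain ⟨z, hz1⟩ := Subgroup.ne_bot_iff_exists_ne_one.1 h1
  have hzN : (z : G) ∈ N i := z.2.1
  have hzT : ∀ t ∈ T, t * (z : G) = z * t := fun t ht => mem_centralizer_iff.1 z.2.2 t ht
  obtain ⟨A, hA, -, hfull⟩ := h.A_full hF c
  obtain ⟨a, ha, hm⟩ := hfull 1
  have hzl : (z : G) ∈ l i := c.mem_of_fix one_ne_zero hm hzN (hzT a (hBT (h.J_le_B (h.lv.AJ A hA ha))))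
  have hz2 : (e z).2 = 0 := ((c.memZ _).1 hzl).2
  have hz0 : (e z).1 ≠ 0 := by
    intro h0
    apply hz1
    refine Subtype.ext (c.inj _ hzN 1 (one_mem _) ?_)
    have h2 := c.mul 1 (one_mem _) 1 (one_mem _)
    rw [mul_one] at h2
    rw [left_eq_add.1 h2]
    exact Prod.ext h0 hz2
  -- the elements of `T` centralise `l i`
  have hTl : ∀ t ∈ T, ∀ v ∈ l i, t * v = v * t := by
    intro t ht v hv
    obtain ⟨A', hA'⟩ := (hTX ht).2.2.1
    have h2 := pv_act hA'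
    have h3 := h2 z hzN
    have h4 : t * (z : G) * t⁻¹ = z := by rw [hzT t ht]; group
    rw [h4] at h3
    have h5 := congrArg Prod.fst h3
    have h6 := congrArg Prod.snd h3
    simp only [hz2, mul_zero, add_zero] at h5 h6
    have h7 : ent A' 0 0 = 1 := by
      have h8 : ent A' 0 0 * (e z).1 = 1 * (e z).1 := by rw [one_mul]; exact h5.symm
      exact mul_right_cancel₀ hz0 h8
    have h8 : ent A' 1 0 = 0 := (mul_eq_zero.1 h6.symm).resolve_right hz0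
    obtain ⟨hv1, hv2⟩ := (c.memZ v).1 hv
    have h9 := h2 v hv1
    refine mul_inv_eq_iff_eq_mul.1 (c.inj _ (XX_norm h e i (hTX ht) i v hv1) v hv1 ?_)
    rw [h9]
    ext
    · simp [h7, hv2]
    · simp [h8, hv2]
  refine h.syl_B hT hBT fun t ht z hz => ?_
  refine h.cent_ZJ (hTX ht).1 (fun j => XX_norm h e i (hTX ht) j) (fun j => ?_) hz
  by_cases hj : j = i
  · subst hj; exact hTl t ht
  · exact XX_l h e i (hTX ht) hj

/-- `Ω₁Z(Q) ≤ V` for `Q = C_S(V)` -/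
def ZcQ (S V : Subgroup G) : Prop := ∀ x ∈ S ⊓ centralizer (V : Set G), x ^ 2 = 1 →
  (∀ y ∈ S ⊓ centralizer (V : Set G), x * y = y * x) → x ∈ V

include h in
/-- `Ω₁Z(B) = Z_J` -/
theorem zc_B (hz : ZcQ (S : Subgroup G) V) : zc (BB (S : Subgroup G) V J) = ZJ V J := by
  ext z
  rw [ChoiceBase.mem_zc]
  constructor
  · rintro ⟨h1, h2, h3⟩
    have h4 : z ∈ (S : Subgroup G) ⊓ centralizer (V : Set G) :=
      ⟨(Lq.mem_BB.1 h1).1, mem_centralizer_iff.2 fun v hv => h3 v (h.V_le_B hv)⟩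
    have h5 : z ∈ V := hz z h4 h2 fun y hy => (h3 y (h.Q_le_B hy)).symm
    exact Lq.mem_ZJ.2 ⟨h5, fun y hy => h3 y (h.J_le_B hy)⟩
  · intro h1
    have h2 := (Lq.mem_ZJ.1 h1).1
    exact ⟨h.V_le_B h2, elem_sq h.b.el z h2, fun y hy => (Lq.mem_BB.1 hy).2 z h1⟩

/-- **`NX`** -/
def nx [Finite F] [CharP F 2] (hF : Nat.card F = q) (c : CorA F (S : Subgroup G) (N i) (l i) e)
    (s : SLA F (D i) (N i) e) (hz : ZcQ (S : Subgroup G) V) : NX F (BB (S : Subgroup G) V J) (XX e i h) (N i) where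
  π := pv e
  mul := fun v hv w hw => by
    funext k
    fin_cases k
    · show (e (v * w)).1 = (e v).1 + (e w).1
      rw [c.mul v hv w hw]; rfl
    · show (e (v * w)).2 = (e v).2 + (e w).2
      rw [c.mul v hv w hw]; rfl
  inj := fun v hv h0 => by
    refine c.inj v hv 1 (one_mem _) ?_
    have h2 := c.mul 1 (one_mem _) 1 (one_mem _)
    rw [mul_one] at h2
    rw [left_eq_add.1 h2]
    exact Prod.ext (congrFun h0 0) (congrFun h0 1)
  surj := fun x => by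
    obtain ⟨v, hv, hve⟩ := c.surj (x 0, x 1)
    refine ⟨v, hv, ext2 ?_ ?_⟩
    · show (e v).1 = x 0
      rw [hve]
    · show (e v).2 = x 1
      rw [hve]
  el := ⟨⟨⟨fun x y => Subtype.ext (h.b.Vc (h.b.NV i x.2) (h.b.NV i y.2))⟩⟩, fun x hx => elem_sq h.b.el x (h.b.NV i hx)⟩
  WB := (h.b.NV i).trans h.V_le_B
  B2 := S.isPGroup'.to_le fun _ hx => (Lq.mem_BB.1 hx).1
  BX := B_le_XX h e i c
  nW := fun m hm v hv => XX_norm h e i hm i v hv
  acts := fun m hm => hm.2.2.1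
  cov := fun A => by
    obtain ⟨g, hg, hga⟩ := s.lift (ent A 0 0) (ent A 0 1) (ent A 1 0) (ent A 1 1) (det_eq A)
    refine ⟨g, D_le_XX h e i s hg, fun v hv => ?_⟩
    have h1 := hga v hv
    apply ext2
    · rw [ap_zero']
      show (e (g * v * g⁻¹)).1 = ent A 0 0 * (e v).1 + ent A 0 1 * (e v).2
      rw [h1]
    · rw [ap_one']
      show (e (g * v * g⁻¹)).2 = ent A 1 0 * (e v).1 + ent A 1 1 * (e v).2
      rw [h1]
  up := fun x hx => by
    obtain ⟨m, hm⟩ := h.B_act c hx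
    exact ⟨m, up_pv hm⟩
  upc := fun m => by
    obtain ⟨A, hA, -, hfull⟩ := h.A_full hF c
    obtain ⟨a, ha, hm⟩ := hfull m
    exact ⟨a, h.J_le_B (h.lv.AJ A hA ha), up_pv hm⟩
  syl := fun T h1 h2 h3 => syl_XX h e i hF c h1 h2 h3
  act := fun m hm z hz' => zj_act h e i hm (by rw [zc_B h hz] at hz'; exact hz')

theorem nx_Zs [Finite F] [CharP F 2] (hF : Nat.card F = q) (c : CorA F (S : Subgroup G) (N i) (l i) e)
    (s : SLA F (D i) (N i) e) (hz : ZcQ (S : Subgroup G) V) : (nx h e i hF c s hz).Zs = l i := by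
  ext v
  rw [NX.mem_Zs, c.memZ]
  rfl

end xx

variable [Finite G] [Finite ι]
include h

/-- the block groups -/
theorem exists_L (hz : ZcQ (S : Subgroup G) V) (i : ι) : ∃ Lb : Subgroup G, Lb ≤ M ∧
    FB (BB (S : Subgroup G) V J) Lb (N i) (l i) q ∧ (∀ m ∈ Lb, ∀ z ∈ ZJ V J, z ∈ C i → m * z = z * m) ∧
    ∃ (F : Type) (_ : Field F) (_ : Finite F) (_ : CharP F 2) (e : G → F × F), Nat.card F = q ∧
      CorA F (S : Subgroup G) (N i) (l i) e ∧ ∀ a b c d : F, a * d - b * c = 1 → ∃ g ∈ Lb,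
        g ∈ normalizer (N i : Set G) ∧ Act (N i) e g (fun p => (a * p.1 + b * p.2, c * p.1 + d * p.2)) ∧
          ∀ j, j ≠ i → ∀ w ∈ N j, g * w = w * g := by
  classical
  have := Fintype.ofFinite ι
  obtain ⟨F, i1, i2, i3, e, hF, c, s⟩ := h.b.nat i
  obtain ⟨Lb, hB, hX, hFB, hcov, -⟩ := (nx h e i hF c s hz).exists_block
  rw [hF, nx_Zs] at hFB
  refine ⟨Lb, hX.trans (XX_le_M h e i), hFB, fun m hm z hz1 hz2 => XX_cent h e i (hX hm) hz1 hz2, F, i1, i2, i3, e, hF, c,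
    fun a b c' d hd => ?_⟩
  obtain ⟨g₀, hg₀, hga⟩ := hcov (Cfsg.Agent.Lib.SL2Mat.mk a b c' d hd)
  -- correct the action on the other blocks
  have key : ∀ t : Finset ι, i ∉ t → ∃ g ∈ Lb, (∀ v ∈ N i, pv e (g * v * g⁻¹) =
      ap (Cfsg.Agent.Lib.SL2Mat.mk a b c' d hd) (pv e v)) ∧ ∀ j ∈ t, ∀ w ∈ N j, g * w = w * g := by
    intro t
    induction t using Finset.induction_on with
    | empty => exact fun _ => ⟨g₀, hg₀, hga, fun j hj => absurd hj (Finset.notMem_empty j)⟩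
    | insert j t hj ih =>
      intro hi
      obtain ⟨g, hg, h1, h2⟩ := ih fun h3 => hi (Finset.mem_insert_of_mem h3)
      have hji : j ≠ i := fun e1 => hi (e1 ▸ Finset.mem_insert_self j t)
      obtain ⟨x, hx, -, hx2⟩ := (hX hg).2.2.2 j hji
      obtain ⟨F', _, _, _, e', hF', c2, -⟩ := h.b.nat j
      obtain ⟨m, hm⟩ := h.B_act c2 hx
      obtain ⟨A, hA, hA1, hfull⟩ := h.A_full hF' c2
      obtain ⟨y, hy, hym⟩ := hfull m
      have hyB : y ∈ BB (S : Subgroup G) V J := h.J_le_B (h.lv.AJ A hA hy)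
      have hxy : ∀ w ∈ N j, g * w * g⁻¹ = y * w * y⁻¹ := by
        intro w hw
        rw [hx2 w hw]
        refine c2.inj _ (h.B_mem hx j hw) _ (h.B_mem hyB j hw) ?_
        rw [hm w hw, hym w hw]
      refine ⟨y⁻¹ * g, mul_mem (inv_mem (hB hyB)) hg, fun v hv => ?_, fun k hk w hw => ?_⟩
      · have h3 : y⁻¹ * g * v * (y⁻¹ * g)⁻¹ = g * v * g⁻¹ := by
          have h4 := XX_norm h e i (hX hg) i v hv
          have h5 := mem_centralizer_iff.1 (hA1 i (Ne.symm hji) hy) _ h4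
          calc y⁻¹ * g * v * (y⁻¹ * g)⁻¹ = y⁻¹ * ((g * v * g⁻¹) * y) := by group
            _ = y⁻¹ * (y * (g * v * g⁻¹)) := by rw [h5]
            _ = g * v * g⁻¹ := by group
        rw [h3]
        exact h1 v hv
      · rcases Finset.mem_insert.1 hk with rfl | hk'
        · have h3 := hxy w hw
          have h4 : g * w = y * w * y⁻¹ * g := by rw [← h3]; group
          calc y⁻¹ * g * w = y⁻¹ * (g * w) := by group
            _ = y⁻¹ * (y * w * y⁻¹ * g) := by rw [h4]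
            _ = w * (y⁻¹ * g) := by group
        · by_cases hkj : k = j
          · subst hkj
            have h3 := hxy w hw
            have h4 : g * w = y * w * y⁻¹ * g := by rw [← h3]; group
            calc y⁻¹ * g * w = y⁻¹ * (g * w) := by group
              _ = y⁻¹ * (y * w * y⁻¹ * g) := by rw [h4]
              _ = w * (y⁻¹ * g) := by group
          · have h3 : Commute g w := h2 k hk' w hw
            have h4 : Commute y w := (mem_centralizer_iff.1 (hA1 k hkj hy) w hw).symm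
            exact (h4.inv_left.mul_left h3).eq
  obtain ⟨g, hg, h1, h2⟩ := key (Finset.univ.erase i) (Finset.notMem_erase i _)
  refine ⟨g, hg, ?_, ?_, fun j hj => h2 j (Finset.mem_erase.2 ⟨hj, Finset.mem_univ j⟩)⟩
  · exact mem_normalizer_iff_cj.2 (Lq.nC h.b (hX hg).1 (XX_norm h e i (hX hg) i)).1
  · have h3 := pv_act h1
    simpa [mk_00, mk_01, mk_10, mk_11] using h3

/-- **THE FRAME OVER `B`.** -/
theorem exists_frL (hz : ZcQ (S : Subgroup G) V) : ∃ Lb A : ι → Subgroup G, (∀ i, Lb i ≤ M) ∧ (∀ i, A i ∈ AA) ∧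
    FrL (BB (S : Subgroup G) V J) ((S : Subgroup G) ⊓ centralizer (V : Set G)) V X (ZJ V J) Lb N l C A q ∧
    ∀ i, ∃ (F : Type) (_ : Field F) (_ : Finite F) (_ : CharP F 2), Nat.card F = q ∧
      ∃ e : G → F × F, Cor F (S : Subgroup G) (BB (S : Subgroup G) V J) Lb N l i e := by
  choose Lb hLM hFB hLC hco using exists_L h hz
  choose A hA h1 h2 h3 h4 h5 using h.exists_A
  have hfr : FrL (BB (S : Subgroup G) V J) ((S : Subgroup G) ⊓ centralizer (V : Set G)) V X (ZJ V J) Lb N l C A q :=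
    { blk := hFB
      cardZ := h.b.card_l
      QB := h.Q_le_B
      VQ := fun v hv => ⟨h.b.VS hv, mem_centralizer_iff.2 fun u hu => h.b.Vc hu hv⟩
      elX := h.lv.elX
      VX := h.lv.VX
      mem_Q := fun x hx => ⟨fun hq v hv => (mem_centralizer_iff.1 hq.2 v hv).symm, fun hc =>
        ⟨(Lq.mem_BB.1 hx).1, mem_centralizer_iff.2 fun v hv => (hc v hv).symm⟩⟩
      zcQ := hz
      mem_ZJ := fun v => ⟨fun hv => ⟨(Lq.mem_ZJ.1 hv).1, fun x hx => (Lq.mem_BB.1 hx).2 v hv⟩, fun hv =>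
        Lq.mem_ZJ.2 ⟨hv.1, fun y hy => hv.2 y (h.J_le_B hy)⟩⟩
      LV := fun i m hm v hv => h.b.MV m (hLM i hm) v hv
      LQ := fun i m hm x hx => by
        have hmM := hLM i hm
        refine ⟨h.b.MQ m hmM x hx, mem_centralizer_iff.2 fun v hv => ?_⟩
        have h6 := mem_centralizer_iff.1 hx.2 (m⁻¹ * v * m) (by simpa using h.b.MV m⁻¹ (inv_mem hmM) v hv)
        calc v * (m * x * m⁻¹) = m * ((m⁻¹ * v * m) * x) * m⁻¹ := by group
          _ = m * x * m⁻¹ * v := by rw [h6]; group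
      LX := fun i m hm x hx => h.lv.MX m (hLM i hm) x hx
      WV := h.b.NV
      CV := h.b.CV
      WC := h.b.WC
      dir := h.b.dir
      C0 := h.b.C0
      WjC := h.b.WjC
      BC := fun i x hx c hc => h.B_memC hx i hc
      LC := fun i m hm z hz1 hz2 => hLC i m hm z hz1 hz2
      AB := fun i a ha => h.J_le_B (h.lv.AJ _ (hA i) ha)
      AX := fun i => h.lv.fam.elem _ (hA i)
      best := fun i => h.lv.fam.best _ (hA i)
      Ane := fun i hcon => by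
        obtain ⟨F, _, _, _, e, hF, c, -⟩ := h.b.nat i
        obtain ⟨a, ha, hm⟩ := c.full_of (h.AS (hA i)) (h4 i) (h3 i) (by rw [hF]; exact h5 i) 1
        obtain ⟨v, hv, hve⟩ := c.surj (0, 1)
        have h6 := c.mem_of_fix one_ne_zero hm hv (hcon a ha v hv)
        have h7 := ((c.memZ v).1 h6).2
        rw [hve] at h7
        exact one_ne_zero h7
      AC := fun i a ha c hc => h2 i a ha c hc }
  refine ⟨Lb, A, hLM, hA, hfr, fun i => ?_⟩
  obtain ⟨F, i1, i2, i3, e, hF, c, hsl⟩ := hco i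
  refine ⟨F, i1, i2, i3, hF, e, c.cor (fun x hx => (Lq.mem_BB.1 hx).1) (hfr.AB i)
    (fun x hx z hz1 => (Lq.mem_BB.1 hx).2 z (h.l_ZJ i hz1)) (fun v hv hv1 z hz1 => ?_) hsl⟩
  exact OM.SWQ.ModQ.root hfr hv hv1 hz1

end Cfsg.Agent.Omega.NOThreeL.RRed.QFr

end

section


/-!
# NO-3L, box R, natural blocks : members of `AA` which act on one block only

* `root`, `nrm` : a member of `AA` acts trivially or as a full root group on every block;
* `card_le` : `|A : C_A(N i)| ≤ q`;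
* `peel` : if `A ∈ AA` moves `N i`, then `B = C_A(N i)` is best too, `C_X(B) = N i C_X(A)`;
* **`exists_A`** : for every `i` some `A ∈ AA` moves `N i` and centralises the other blocks.
-/

set_option autoImplicit false
set_option linter.unusedSectionVars false

namespace Cfsg.Agent.Omega.NOThreeL.RRed.BQ

open Subgroup Cfsg Cfsg.Agent.ZN Cfsg.Agent.ZN.ChoiceBase
open Cfsg.Agent.Omega.SQ1.Bau (mem_sup_comm card_sup_comm elem_comm elem_sq mem_sup_norm)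
open Cfsg.Agent.Omega.OM.Lev.Uni (Best)
open Cfsg.Agent.Omega.FFThm (ElemM)
open Cfsg.Agent.Omega.NO3S.OneLine (BFam)
open Cfsg.Agent.Omega.OM.FourF (Act)
open Cfsg.Agent.Omega.OM.SwapV.Q (CorA)
open Cfsg.Agent.Omega.NOThreeL.RRed.QFr

universe u

variable {G : Type u} [Group G]

/-- `|A : C_A(W)| ≤ |F|` -/
theorem cor_card_le [Finite G] {F : Type} [Field F] [Finite F] {S W Z : Subgroup G} {e : G → F × F}
    (c : CorA F S W Z e) {A : Subgroup G} (hA : A ≤ S)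
    (hn : ∀ a ∈ A, ∀ w ∈ W, a * w * a⁻¹ ∈ W) (hc : ∀ a ∈ A, ∀ z ∈ Z, a * z = z * a) :
    Nat.card A ≤ Nat.card F * Nat.card ↥(A ⊓ centralizer (W : Set G)) := by
  classical
  have h1 : ∀ a : A, ∃ m : F, Act W e a fun p => (p.1 + m * p.2, p.2) := fun a => c.up_of (hA a.2) (hc a a.2)
  choose f hf using h1
  obtain ⟨v, hv, hve⟩ := c.surj (0, 1)
  have hfv : ∀ a : A, (e ((a : G) * v * (a : G)⁻¹)).1 = f a := by
    intro a
    rw [hf a v hv, hve]
    simp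
  have hadd : ∀ a b : A, f (a * b) = f a + f b := by
    intro a b
    rw [← hfv (a * b)]
    have e1 : ((a * b : A) : G) * v * ((a * b : A) : G)⁻¹ = (a : G) * ((b : G) * v * (b : G)⁻¹) * (a : G)⁻¹ := by
      rw [Subgroup.coe_mul]; group
    rw [e1, hf a _ (hn b b.2 v hv), hf b v hv, hve]
    simp [add_comm]
  let φ : A →* Multiplicative F := MonoidHom.mk' (fun a => Multiplicative.ofAdd (f a)) (by
    intro a b
    show Multiplicative.ofAdd (f (a * b)) = _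
    rw [hadd a b]
    rfl)
  have hker : Nat.card φ.ker ≤ Nat.card ↥(A ⊓ centralizer (W : Set G)) := by
    refine Nat.card_le_card_of_injective (fun a : φ.ker => (⟨(a.1 : G), a.1.2, ?_⟩ : ↥(A ⊓ centralizer (W : Set G)))) ?_
    · refine mem_centralizer_iff.2 fun w hw => ?_
      have h0 : f a.1 = 0 := congrArg Multiplicative.toAdd (MonoidHom.mem_ker.1 a.2)
      have h2 := hf a.1 w hw
      rw [h0] at h2
      simp only [zero_mul, add_zero] at h2
      have h3 : (a.1 : G) * w * (a.1 : G)⁻¹ = w := c.inj _ (hn a.1 a.1.2 w hw) w hw h2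
      exact (mul_inv_eq_iff_eq_mul.1 h3).symm
    · intro x y hxy
      have h0 : (x.1 : G) = y.1 := congrArg (fun t : ↥(A ⊓ centralizer (W : Set G)) => (t : G)) hxy
      exact Subtype.ext (Subtype.ext h0)
  have hmul : Nat.card φ.ker * Nat.card φ.range = Nat.card A := by
    rw [← Subgroup.index_ker, Subgroup.card_mul_index]
  have hr : Nat.card φ.range ≤ Nat.card F := by
    have : Finite (Multiplicative F) := inferInstanceAs (Finite F)
    exact Subgroup.card_le_card_group φ.range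
  calc Nat.card A = Nat.card φ.range * Nat.card φ.ker := by rw [← hmul, mul_comm]
    _ ≤ _ := Nat.mul_le_mul hr hker

variable [Finite G] {ι : Type} {S : Sylow 2 G} {M V : Subgroup G} {N D l C : ι → Subgroup G} {q : ℕ}
  {X L J : Subgroup G} {AA : Set (Subgroup G)} (b : Bq S M V N D l C q) (lv : LvQ S M V N X L J AA)
include b lv

/-- a member of `AA` acts trivially or as a full root group -/
theorem root {A : Subgroup G} (hA : A ∈ AA) (i : ι) : A ≤ centralizer (N i : Set G) ∨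
    ((∀ a ∈ A, ∀ z ∈ l i, a * z = z * a) ∧ (∀ a ∈ A, ∀ v ∈ N i, a * v * a⁻¹ * v⁻¹ ∈ l i) ∧
      q * Nat.card ↥(A ⊓ centralizer (N i : Set G)) ≤ Nat.card A) := by
  have hcl : centralizer (X : Set G) ≤ centralizer (V : Set G) := centralizer_le lv.VX
  refine b.off A (lv.fam.le A hA) ⟨fun a ha => hcl ((lv.fam.elem A hA).sq a ha), fun a ha b hb =>
    hcl ((lv.fam.elem A hA).comm a ha b hb)⟩ (fun Y hY => ?_) i
  exact BFr.best_ineq (elem_comm lv.elX) (lv.fam.best A hA) (hY.trans lv.VX)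

/-- a member of `AA` normalises the blocks -/
theorem nrm {A : Subgroup G} (hA : A ∈ AA) (i : ι) {a : G} (ha : a ∈ A) : ∀ v ∈ N i, a * v * a⁻¹ ∈ N i := by
  intro v hv
  rcases root b lv hA i with h1 | ⟨-, h1, -⟩
  · have h2 := mem_centralizer_iff.1 (h1 ha) v hv
    rw [← h2]
    simpa using hv
  · have h2 := mul_mem (b.lN i (h1 a ha v hv)) hv
    simpa using h2

/-- `C_(N i)(A) ≤ l i` -/
theorem fix {A : Subgroup G} (hA : A ∈ AA) {i : ι} (hi : ¬ A ≤ centralizer (N i : Set G)) {w : G} (hw : w ∈ N i)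
    (hf : ∀ a ∈ A, a * w = w * a) : w ∈ l i := by
  obtain ⟨h3, -, h5⟩ := (root b lv hA i).resolve_left hi
  obtain ⟨F, _, _, _, e, hF, c, -⟩ := b.nat i
  obtain ⟨a, ha, hm⟩ := c.full_of (lv.fam.le A hA) (fun a ha => nrm b lv hA i ha) h3 (by rw [hF]; exact h5) 1
  exact c.mem_of_fix one_ne_zero hm hw (hf a ha)

theorem card_le {A : Subgroup G} (hA : A ∈ AA) {i : ι} (hi : ¬ A ≤ centralizer (N i : Set G)) :
    Nat.card A ≤ q * Nat.card ↥(A ⊓ centralizer (N i : Set G)) := by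
  obtain ⟨h3, -, -⟩ := (root b lv hA i).resolve_left hi
  obtain ⟨F, _, _, _, e, hF, c, -⟩ := b.nat i
  rw [← hF]
  exact cor_card_le c (lv.fam.le A hA) (fun a ha => nrm b lv hA i ha) h3

/-- **`C_A(N i)` is best, `C_X(C_A(N i)) = N i C_X(A)`.** -/
theorem peel {A : Subgroup G} (hA : A ∈ AA) {i : ι} (hi : ¬ A ≤ centralizer (N i : Set G)) :
    Nat.card ↥(A ⊓ centralizer (N i : Set G)) *
        Nat.card ↥(X ⊓ centralizer ((A ⊓ centralizer (N i : Set G) : Subgroup G) : Set G)) =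
      Nat.card A * Nat.card ↥(X ⊓ centralizer (A : Set G)) ∧
    X ⊓ centralizer ((A ⊓ centralizer (N i : Set G) : Subgroup G) : Set G) = N i ⊔ (X ⊓ centralizer (A : Set G)) := by
  have hXc := elem_comm lv.elX
  have hNX : N i ≤ X := (b.NV i).trans lv.VX
  set B := A ⊓ centralizer (N i : Set G) with hB
  set K := X ⊓ centralizer (A : Set G) with hK
  have hAB : A ⊓ centralizer (X : Set G) ≤ B := inf_le_inf_left _ (centralizer_le hNX)
  have h1 := lv.fam.best A hA B hAB inf_le_left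
  have h2 := card_le b lv hA hi
  rw [← hB] at h2
  have hle : N i ⊔ K ≤ X ⊓ centralizer (B : Set G) := by
    refine sup_le (le_inf hNX fun v hv => mem_centralizer_iff.2 fun f hf => ?_)
      (inf_le_inf_left _ (centralizer_le inf_le_left))
    exact (mem_centralizer_iff.1 hf.2 v hv).symm
  have h3 := card_sup_comm (A := N i) (B := K) fun v hv x hx => hXc v (hNX hv) x hx.1
  have h4 : Nat.card ↥(N i ⊓ K) ≤ q := by
    rw [← b.card_l i]
    refine Subgroup.card_le_of_le fun w hw => fix b lv hA hi hw.1 fun a ha => ?_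
    exact mem_centralizer_iff.1 hw.2.2 a ha
  have hq0 : 0 < q := by have := b.q4; omega
  rw [b.card_N i] at h3
  have h5 : q * Nat.card K ≤ Nat.card ↥(N i ⊔ K) := by
    refine Nat.le_of_mul_le_mul_left ?_ hq0
    calc q * (q * Nat.card K) = q * q * Nat.card K := by ring
      _ = Nat.card ↥(N i ⊔ K) * Nat.card ↥(N i ⊓ K) := h3.symm
      _ ≤ Nat.card ↥(N i ⊔ K) * q := Nat.mul_le_mul_left _ h4
      _ = _ := by ring
  have hB0 : 0 < Nat.card B := Nat.card_pos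
  have h6 : Nat.card ↥(X ⊓ centralizer (B : Set G)) ≤ q * Nat.card K := by
    refine Nat.le_of_mul_le_mul_left ?_ hB0
    calc _ ≤ Nat.card A * Nat.card K := h1
      _ ≤ q * Nat.card B * Nat.card K := Nat.mul_le_mul_right _ h2
      _ = _ := by ring
  have h7 : N i ⊔ K = X ⊓ centralizer (B : Set G) := Subgroup.eq_of_le_of_card_ge hle (h6.trans h5)
  refine ⟨le_antisymm h1 ?_, h7.symm⟩
  calc Nat.card A * Nat.card K ≤ q * Nat.card B * Nat.card K := Nat.mul_le_mul_right _ h2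
    _ = Nat.card B * (q * Nat.card K) := by ring
    _ ≤ Nat.card B * Nat.card ↥(N i ⊔ K) := Nat.mul_le_mul_left _ h5
    _ = _ := by rw [h7]

/-- `C_A(N j)` still moves `N i` -/
theorem peel_mv {A : Subgroup G} (hA : A ∈ AA) {i j : ι} (hij : i ≠ j) (hi : ¬ A ≤ centralizer (N i : Set G))
    (hj : ¬ A ≤ centralizer (N j : Set G)) :
    ¬ A ⊓ centralizer (N j : Set G) ≤ centralizer (N i : Set G) := by
  intro hcon
  obtain ⟨-, h2⟩ := peel b lv hA hj
  have hXc := elem_comm lv.elX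
  -- `N i ≤ l i`
  have key : N i ≤ l i := by
    intro v hv
    have hvX : v ∈ X := lv.VX (b.NV i hv)
    have h3 : v ∈ X ⊓ centralizer ((A ⊓ centralizer (N j : Set G) : Subgroup G) : Set G) :=
      ⟨hvX, mem_centralizer_iff.2 fun a ha => (mem_centralizer_iff.1 (hcon ha) v hv).symm⟩
    rw [h2] at h3
    obtain ⟨n, hn, k, hk, e⟩ := mem_sup_comm (A := N j) (B := X ⊓ centralizer (A : Set G))
      (fun v hv x hx => hXc v (lv.VX (b.NV j hv)) x hx.1) h3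
    refine fix b lv hA hi hv fun a ha => ?_
    -- the components of `k = n⁻¹ v`
    have ek : k = n⁻¹ * v := by rw [e]; group
    have h4 : a * k = k * a := mem_centralizer_iff.1 hk.2 a ha
    have h5 : a * k * a⁻¹ = k := by rw [h4]; group
    have h6 : a * v * a⁻¹ * v⁻¹ ∈ N i := mul_mem (nrm b lv hA i ha v hv) (inv_mem hv)
    have h7 : a * n * a⁻¹ * n⁻¹ ∈ N j := mul_mem (nrm b lv hA j ha n hn) (inv_mem hn)
    have h8 : a * v * a⁻¹ * v⁻¹ = a * n * a⁻¹ * n⁻¹ := by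
      have h9 : a * v * a⁻¹ = a * n * a⁻¹ * k := by
        calc a * v * a⁻¹ = a * n * a⁻¹ * (a * k * a⁻¹) := by rw [e]; group
          _ = _ := by rw [h5]
      rw [h9, e]
      group
    have h9 : a * v * a⁻¹ * v⁻¹ ∈ N i ⊓ C i := mem_inf.2 ⟨h6, b.WjC i j hij (h8 ▸ h7)⟩
    rw [b.dir i, mem_bot] at h9
    exact mul_inv_eq_iff_eq_mul.1 (mul_inv_eq_one.1 h9)
  have h3 := Subgroup.card_le_of_le key
  rw [b.card_N, b.card_l] at h3
  have := b.q4
  nlinarith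

/-- centralising a block depends only on the action on `X` -/
theorem cen_congr {B B' : Subgroup G} (h : B' ⊔ centralizer (X : Set G) = B ⊔ centralizer (X : Set G)) (i : ι) :
    B' ≤ centralizer (N i : Set G) ↔ B ≤ centralizer (N i : Set G) := by
  have hc : centralizer (X : Set G) ≤ centralizer (N i : Set G) := centralizer_le ((b.NV i).trans lv.VX)
  constructor
  · intro h1
    exact le_sup_left.trans (h.ge.trans (sup_le h1 hc))
  · intro h1
    exact le_sup_left.trans (h.le.trans (sup_le h1 hc))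

/-- **A member acting on one block only.** -/
theorem exists_pure [Finite ι] (i : ι) : ∀ (n : ℕ) (A : Subgroup G), A ∈ AA → ¬ A ≤ centralizer (N i : Set G) →
    {j | ¬ A ≤ centralizer (N j : Set G)}.ncard ≤ n →
      ∃ B ∈ AA, ¬ B ≤ centralizer (N i : Set G) ∧ ∀ j, j ≠ i → B ≤ centralizer (N j : Set G) := by
  intro n
  induction n with
  | zero =>
    intro A hA hi hn
    have h1 : {j | ¬ A ≤ centralizer (N j : Set G)} = ∅ := by
      rw [← Set.ncard_eq_zero (Set.toFinite _)]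
      omega
    exact absurd (show i ∈ {j | ¬ A ≤ centralizer (N j : Set G)} from hi) (by rw [h1]; exact Set.notMem_empty i)
  | succ n ih =>
    intro A hA hi hn
    by_cases hex : ∀ j, j ≠ i → A ≤ centralizer (N j : Set G)
    · exact ⟨A, hA, hi, hex⟩
    push Not at hex
    obtain ⟨j, hji, hj⟩ := hex
    obtain ⟨h1, -⟩ := peel b lv hA hj
    have hXB : A ⊓ centralizer (X : Set G) ≤ A ⊓ centralizer (N j : Set G) :=
      inf_le_inf_left _ (centralizer_le ((b.NV j).trans lv.VX))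
    obtain ⟨B, hB, hBA⟩ := lv.fam.cut A hA _ hXB inf_le_left h1
    have hiff := fun k => cen_congr b lv hBA k
    refine ih B hB (fun hcon => peel_mv b lv hA hji.symm hi hj ((hiff i).1 hcon)) ?_
    have hsub : {k | ¬ B ≤ centralizer (N k : Set G)} ⊆ {k | ¬ A ≤ centralizer (N k : Set G)} \ {j} := by
      intro k hk
      refine ⟨fun hAk => hk ((hiff k).2 (inf_le_left.trans hAk)), ?_⟩
      rintro rfl
      exact hk ((hiff _).2 inf_le_right)
    have h2 : ({k | ¬ A ≤ centralizer (N k : Set G)} \ {j}).ncard =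
        {k | ¬ A ≤ centralizer (N k : Set G)}.ncard - 1 :=
      Set.ncard_sdiff_singleton_of_mem hj
    have h3 := Set.ncard_le_ncard hsub (Set.toFinite _)
    omega

/-- the elements of `M` which normalise every block -/
def K0 (M : Subgroup G) (N : ι → Subgroup G) : Subgroup G := M ⊓ ⨅ i, normalizer (N i : Set G)

omit b lv in
theorem mem_K0 {g : G} : g ∈ K0 M N ↔ g ∈ M ∧ ∀ i, cj g (N i) = N i := by
  rw [K0, mem_inf, mem_iInf]
  exact and_congr_right fun _ => forall_congr' fun i => mem_normalizer_iff_cj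

omit lv in
theorem K0_norm {g k : G} (hg : g ∈ M) (hk : k ∈ K0 M N) : g * k * g⁻¹ ∈ K0 M N := by
  rw [mem_K0] at hk ⊢
  refine ⟨mul_mem (mul_mem hg hk.1) (inv_mem hg), fun i => ?_⟩
  obtain ⟨j, hj, -⟩ := b.perm g⁻¹ (inv_mem hg) i
  rw [← cj_cj, ← cj_cj, hj, hk.2 j, ← hj, cj_cj, mul_inv_cancel, cj_one]

/-- **For every block a member of `AA` which acts on this block only.** -/
theorem exists_A [Finite ι] (i : ι) :
    ∃ A ∈ AA, ¬ A ≤ centralizer (N i : Set G) ∧ ∀ j, j ≠ i → A ≤ centralizer (N j : Set G) := by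
  obtain ⟨i₀, A₀, hA₀, hm₀⟩ := lv.mv
  obtain ⟨A, hA, h1, h2⟩ := exists_pure b lv i₀ _ A₀ hA₀ hm₀ le_rfl
  obtain ⟨g, hg, hgi⟩ := b.tr i₀ i
  have hAS := lv.fam.le A hA
  have hAM : A ≤ M := hAS.trans b.SM
  -- `A` lies in the kernel
  have hAK : A ≤ K0 M N := fun a ha => mem_K0.2 ⟨hAM ha, fun k =>
    (Lq.nC b (hAM ha) (nrm b lv hA k ha)).1⟩
  have hTK : cj g A ≤ K0 M N := by
    rintro _ ⟨a, ha, rfl⟩
    exact K0_norm b hg (hAK ha)
  have hT : IsPGroup 2 (cj g A) := isPGroup_cj g (S.isPGroup'.to_le hAS)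
  obtain ⟨m, hm, hmS⟩ := BFr.exists_into S (le_sup_right : (S : Subgroup G) ≤ K0 M N ⊔ (S : Subgroup G)) hT
    (hTK.trans le_sup_left)
  rw [sup_comm] at hm
  obtain ⟨s, hs, k, hk, rfl⟩ := mem_sup_norm (A := (S : Subgroup G)) (B := K0 M N)
    (fun s hs => mem_normalizer_iff.2 fun c => ⟨fun hc => K0_norm b (b.SM hs) hc, fun hc => by
      have h3 := K0_norm b (inv_mem (b.SM hs)) hc
      have e1 : s⁻¹ * (s * c * s⁻¹) * s⁻¹⁻¹ = c := by group
      rwa [e1] at h3⟩) hm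
  have hkM : k ∈ M := (mem_K0.1 hk).1
  have hkS : cj (k * g) A ≤ (S : Subgroup G) := by
    have h3 : cj s (cj k (cj g A)) ≤ (S : Subgroup G) := by rwa [cj_cj]
    have h4 := cj_mono s⁻¹ h3
    rw [cj_inv_cj, cj_eq_of_mem_normalizer (le_normalizer (inv_mem hs)), cj_cj] at h4
    exact h4
  have hkg : k * g ∈ M := mul_mem hkM hg
  have hcen : ∀ j j', cj (k * g) (N j) = N j' → (cj (k * g) A ≤ centralizer (N j' : Set G) ↔
      A ≤ centralizer (N j : Set G)) := by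
    intro j j' e
    rw [← e, ← cj_centralizer]
    constructor
    · intro h3
      have h4 := cj_mono (k * g)⁻¹ h3
      rwa [cj_inv_cj, cj_inv_cj] at h4
    · exact fun h3 => cj_mono _ h3
  refine ⟨cj (k * g) A, lv.fam.conj A hA (k * g) (lv.ML hkg) hkS, ?_, fun j hj => ?_⟩
  · rw [hcen i₀ i (by rw [← cj_cj, hgi, (mem_K0.1 hk).2])]
    exact h1
  · obtain ⟨j₀, hj₀, -⟩ := b.perm (k * g)⁻¹ (inv_mem hkg) j
    have e : cj (k * g) (N j₀) = N j := by rw [← hj₀, cj_cj, mul_inv_cancel, cj_one]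
    rw [hcen j₀ j e]
    refine h2 j₀ fun e0 => hj ?_
    rw [e0, ← cj_cj, hgi, (mem_K0.1 hk).2] at e
    exact (b.N_inj e).symm

end Cfsg.Agent.Omega.NOThreeL.RRed.BQ

end

section


/-!
# NO-3L, box R, natural blocks : a member of `AA` acting on one block only and a Weyl element

* `Wy` : `A` acts on `N i` as the full root group with axis `l i`, `A^w` as the opposite one, `⟨A, A^w⟩` acts on `V` as `D i`;
* `exists_wy` : these exist, with `A ∈ AA`.
-/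

set_option autoImplicit false
set_option linter.unusedSectionVars false

namespace Cfsg.Agent.Omega.NOThreeL.RRed.BQ

open Subgroup Cfsg Cfsg.Agent.ZN Cfsg.Agent.ZN.ChoiceBase
open Cfsg.Agent.Lib.SL2Mat
open Cfsg.Agent.Omega.NatPair hiding cj
open Cfsg.Agent.Omega.SQ1.Bau (mem_sup_comm card_sup_comm elem_comm elem_sq mem_sup_norm)
open Cfsg.Agent.Omega.OM.Lev.Uni (Best)
open Cfsg.Agent.Omega.FFThm (ElemM)
open Cfsg.Agent.Omega.NO3S.OneLine (BFam)
open Cfsg.Agent.Omega.OM.FourF (Act)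
open Cfsg.Agent.Omega.OM.SwapV.Q (CorA)
open Cfsg.Agent.Omega.NOThreeL.RRed.QFr

universe u

variable {G : Type u} [Group G]

/-- **`A` acts on the block `i` only, `w` is a Weyl element.** -/
structure Wy {ι : Type} (M V : Subgroup G) (N D l C : ι → Subgroup G) (A : Subgroup G) (w : G) (i : ι) : Prop where
  AM : A ≤ M
  wD : w ∈ D i
  An : ∀ a ∈ A, ∀ v ∈ N i, a * v * a⁻¹ ∈ N i
  Ac : ∀ a ∈ A, ∀ c ∈ C i, a * c = c * a
  Al : ∀ a ∈ A, ∀ v ∈ l i, a * v = v * a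
  fix : ∀ v ∈ N i, (∀ a ∈ A, a * v = v * a) → v ∈ l i
  ll : ∀ v ∈ l i, w⁻¹ * v * w ∈ l i → v = 1
  split : ∀ v ∈ N i, ∃ x ∈ l i, ∃ y ∈ l i, v = x * (w * y * w⁻¹)
  gen : ∀ d ∈ D i, ∃ k ∈ A ⊔ cj w A, ∀ v ∈ V, k * v * k⁻¹ = d * v * d⁻¹
  act : ∀ a ∈ A, ∃ d ∈ D i, ∀ v ∈ V, a * v * a⁻¹ = d * v * d⁻¹

variable [Finite G] {ι : Type} {S : Sylow 2 G} {M V : Subgroup G} {N D l C : ι → Subgroup G} {q : ℕ}
  {X L J : Subgroup G} {AA : Set (Subgroup G)} (b : Bq S M V N D l C q) (lv : LvQ S M V N X L J AA)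

section mats

variable {F : Type} [Field F] {e : G → F × F} {i : ι}

omit [Finite G] in
theorem CorA_one {W Z S : Subgroup G} (c : CorA F S W Z e) : e 1 = 0 := by
  have h2 := c.mul 1 (one_mem _) 1 (one_mem _)
  rw [mul_one] at h2
  exact left_eq_add.1 h2

include b in
/-- the elements of `H` acting as a matrix on `N i` and trivially on `C i` -/
theorem gen_aux (c : CorA F (S : Subgroup G) (N i) (l i) e) (s : SLA F (D i) (N i) e) {A : Subgroup G}
    (hAn : ∀ a ∈ A, ∀ v ∈ N i, a * v * a⁻¹ ∈ N i) (hAc : ∀ a ∈ A, ∀ x ∈ C i, a * x = x * a)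
    (hfull : ∀ m : F, ∃ a ∈ A, Act (N i) e a fun p => (p.1 + m * p.2, p.2)) {w : G} (hw : w ∈ D i)
    (hwa : ∀ v ∈ N i, pv e (w * v * w⁻¹) = ap (wm (1 : F) one_ne_zero) (pv e v)) {d : G} (hd : d ∈ D i) :
    ∃ k ∈ A ⊔ cj w A, ∀ v ∈ V, k * v * k⁻¹ = d * v * d⁻¹ := by
  let T : Matrix.SpecialLinearGroup (Fin 2) F → Prop := fun m => ∃ k ∈ A ⊔ cj w A, (∀ x ∈ C i, k * x = x * k) ∧
    (∀ v ∈ N i, k * v * k⁻¹ ∈ N i) ∧ ∀ v ∈ N i, pv e (k * v * k⁻¹) = ap m (pv e v)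
  have hmul : ∀ m m', T m → T m' → T (m * m') := by
    rintro m m' ⟨k, hk, k1, k2, k3⟩ ⟨k', hk', k1', k2', k3'⟩
    have e1 : ∀ v, k * k' * v * (k * k')⁻¹ = k * (k' * v * k'⁻¹) * k⁻¹ := fun v => by group
    refine ⟨k * k', mul_mem hk hk', fun x hx => ?_, fun v hv => ?_, fun v hv => ?_⟩
    · have c1 : Commute k x := k1 x hx
      have c2 : Commute k' x := k1' x hx
      exact (c1.mul_left c2).eq
    · rw [e1]; exact k2 _ (k2' v hv)
    · rw [e1, k3 _ (k2' v hv), k3' v hv, ap_mul]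
  have hup : ∀ m : F, T (up m) := by
    intro m
    obtain ⟨a, ha, hm⟩ := hfull m
    exact ⟨a, mem_sup_left ha, hAc a ha, hAn a ha, up_pv hm⟩
  have hwi : ∀ v ∈ N i, w⁻¹ * v * w ∈ N i := fun v hv => by
    have h1 := s.nD w⁻¹ (inv_mem hw) v hv
    rwa [inv_inv] at h1
  have hlo : ∀ m : F, T (lo m) := by
    intro m
    obtain ⟨a, ha, hm⟩ := hfull (-m)
    have hm' := up_pv hm
    have e1 : ∀ v, w * a * w⁻¹ * v * (w * a * w⁻¹)⁻¹ = w * (a * (w⁻¹ * v * w) * a⁻¹) * w⁻¹ := fun v => by group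
    refine ⟨w * a * w⁻¹, mem_sup_right ⟨a, ha, rfl⟩, fun x hx => ?_, fun v hv => ?_, fun v hv => ?_⟩
    · have c1 : Commute w x := b.DC i w hw x hx
      have c2 : Commute a x := hAc a ha x hx
      exact ((c1.mul_left c2).mul_left c1.inv_left).eq
    · rw [e1]; exact s.nD w hw _ (hAn a ha _ (hwi v hv))
    · have h1 := hwa _ (hwi v hv)
      have e2 : w * (w⁻¹ * v * w) * w⁻¹ = v := by group
      rw [e2] at h1
      rw [e1, hwa _ (hAn a ha _ (hwi v hv)), hm' _ (hwi v hv), h1, ← ap_mul, ← ap_mul, wm_up]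
      congr 2
      simp
  obtain ⟨x, y, z, t, hdet, hact⟩ := s.act d hd
  have hd' := act_pv hdet hact
  obtain ⟨a₁, a₂, a₃, a₄, hm⟩ := exists_up_lo (Cfsg.Agent.Lib.SL2Mat.mk x y z t hdet)
  obtain ⟨k, hk, k1, k2, k3⟩ : T (Cfsg.Agent.Lib.SL2Mat.mk x y z t hdet) := by
    rw [hm]
    exact hmul _ _ (hmul _ _ (hmul _ _ (hup _) (hlo _)) (hup _)) (hlo _)
  refine ⟨k, hk, fun v hv => ?_⟩
  obtain ⟨n, hn, c', hc', rfl⟩ := b.WC i v hv
  have h1 : k * n * k⁻¹ = d * n * d⁻¹ :=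
    c.inj _ (k2 n hn) _ (s.nD d hd n hn) (pv_inj ((k3 n hn).trans (hd' n hn).symm))
  have h2 : k * c' * k⁻¹ = c' := by rw [k1 c' hc']; group
  have h3 : d * c' * d⁻¹ = c' := by rw [b.DC i d hd c' hc']; group
  calc k * (n * c') * k⁻¹ = (k * n * k⁻¹) * (k * c' * k⁻¹) := by group
    _ = (d * n * d⁻¹) * (d * c' * d⁻¹) := by rw [h1, h2, h3]
    _ = _ := by group

end mats

include b lv

/-- **Existence.** -/
theorem exists_wy [Finite ι] (i : ι) : ∃ A ∈ AA, ∃ w, A ≤ (S : Subgroup G) ∧ A ≤ J ∧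
    ¬ A ≤ centralizer (N i : Set G) ∧ Wy M V N D l C A w i := by
  obtain ⟨A, hA, h1, h2⟩ := exists_A b lv i
  obtain ⟨h3, h4, h5⟩ := (root b lv hA i).resolve_left h1
  obtain ⟨F, _, _, _, e, hF, c, s⟩ := b.nat i
  have hAn : ∀ a ∈ A, ∀ v ∈ N i, a * v * a⁻¹ ∈ N i := fun a ha => nrm b lv hA i ha
  have hAc : ∀ a ∈ A, ∀ x ∈ C i, a * x = x * a := fun a ha x hx =>
    b.cent_C (fun j hj v hv => (mem_centralizer_iff.1 (h2 j hj ha) v hv).symm) x hx
  have hfull := c.full_of (lv.fam.le A hA) hAn h3 (by rw [hF]; exact h5)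
  obtain ⟨w, hw, hwa⟩ := s.lift 0 1 (-1) 0 (by ring)
  have hwa' : ∀ v ∈ N i, pv e (w * v * w⁻¹) = ap (wm (1 : F) one_ne_zero) (pv e v) := by
    intro v hv
    rw [act_pv (by ring) hwa v hv]
    congr 1
    refine ext_ent ?_ ?_ ?_ ?_ <;> simp
  have e0 := CorA_one c
  refine ⟨A, hA, w, lv.fam.le A hA, lv.AJ A hA, h1, (lv.fam.le A hA).trans b.SM, hw, hAn, hAc, h3,
    fun v hv hf => fix b lv hA h1 hv hf, fun v hv hv' => ?_, fun v hv => ?_, fun d hd => gen_aux b c s hAn hAc hfull hw hwa' hd,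
    fun a ha => ?_⟩
  · obtain ⟨hu1, hu2⟩ := (c.memZ _).1 hv'
    obtain ⟨hv1, hv2⟩ := (c.memZ _).1 hv
    have h6 := hwa _ hu1
    have e2 : w * (w⁻¹ * v * w) * w⁻¹ = v := by group
    rw [e2] at h6
    refine c.inj v hv1 1 (one_mem _) ?_
    rw [e0]
    refine Prod.ext ?_ hv2
    rw [h6]
    simp [hu2]
  · obtain ⟨x, hx, hxe⟩ := c.surj ((e v).1, 0)
    obtain ⟨y, hy, hye⟩ := c.surj (-(e v).2, 0)
    refine ⟨x, (c.memZ x).2 ⟨hx, by rw [hxe]⟩, y, (c.memZ y).2 ⟨hy, by rw [hye]⟩, ?_⟩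
    have h6 := s.nD w hw y hy
    refine c.inj v hv _ (mul_mem hx h6) ?_
    rw [c.mul x hx _ h6, hwa y hy, hxe, hye]
    ext <;> simp
  · obtain ⟨m, hm⟩ := c.up_of (lv.fam.le A hA ha) (h3 a ha)
    obtain ⟨d, hd, hda⟩ := s.lift 1 m 0 1 (by ring)
    refine ⟨d, hd, fun v hv => ?_⟩
    obtain ⟨n, hn, c', hc', rfl⟩ := b.WC i v hv
    have h6 : a * n * a⁻¹ = d * n * d⁻¹ := by
      refine c.inj _ (hAn a ha n hn) _ (s.nD d hd n hn) ?_
      rw [hm n hn, hda n hn]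
      ext <;> simp
    have h7 : a * c' * a⁻¹ = c' := by rw [hAc a ha c' hc']; group
    have h8 : d * c' * d⁻¹ = c' := by rw [b.DC i d hd c' hc']; group
    calc a * (n * c') * a⁻¹ = (a * n * a⁻¹) * (a * c' * a⁻¹) := by group
      _ = (d * n * d⁻¹) * (d * c' * d⁻¹) := by rw [h6, h7, h8]
      _ = _ := by group

end Cfsg.Agent.Omega.NOThreeL.RRed.BQ

end

section


/-!
# NO-3L, box R, natural blocks : no fixed points outside `V`

* `core` : `V ≤ Y` abelian, `M`-invariant; for every block a member acting on this block only which is good on `Y`; the elements of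
  `M` centralising `V` and `Y / V` centralise `Y`; `C_Y(S) ≤ V`; then `Y ≤ V`;
* `gd` : members of `AA` are good; **`zcQ`** : `Ω₁(Z(C_S(V))) ≤ V`; **`le_of_cent`** : `S`-invariant subgroups of `C_X(J)` lie in `V`.
-/

set_option autoImplicit false
set_option linter.unusedSectionVars false

namespace Cfsg.Agent.Omega.NOThreeL.RRed.BQ

open Subgroup Cfsg Cfsg.Agent.ZN Cfsg.Agent.ZN.ChoiceBase
open Cfsg.Agent.Omega.SQ1.Bau (mem_sup_comm card_sup_comm elem_comm elem_sq mem_sup_norm)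
open Cfsg.Agent.Omega.OM.Lev.Uni (Best)
open Cfsg.Agent.Omega.FFThm (ElemM)
open Cfsg.Agent.Omega.NO3S.OneLine (BFam)
open Cfsg.Agent.Omega.NOThreeL.RRed.QFr

universe u

variable {G : Type u} [Group G]

/-- the elements of `M` which act trivially on `Y / V` -/
def Mq (M V Y : Subgroup G) (hMV : ∀ g ∈ M, ∀ v ∈ V, g * v * g⁻¹ ∈ V) : Subgroup G where
  carrier := {k | k ∈ M ∧ ∀ y ∈ Y, k * y * k⁻¹ * y⁻¹ ∈ V}
  mul_mem' := by
    rintro a b ⟨ha, ha2⟩ ⟨hb, hb2⟩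
    refine ⟨mul_mem ha hb, fun y hy => ?_⟩
    have e : a * b * y * (a * b)⁻¹ * y⁻¹ = (a * (b * y * b⁻¹ * y⁻¹) * a⁻¹) * (a * y * a⁻¹ * y⁻¹) := by group
    rw [e]
    exact mul_mem (hMV a ha _ (hb2 y hy)) (ha2 y hy)
  one_mem' := ⟨one_mem _, fun y _ => by simp⟩
  inv_mem' := by
    rintro a ⟨ha, ha2⟩
    refine ⟨inv_mem ha, fun y hy => ?_⟩
    have e : a⁻¹ * y * a⁻¹⁻¹ * y⁻¹ = a⁻¹ * (a * y * a⁻¹ * y⁻¹)⁻¹ * a⁻¹⁻¹ := by group
    rw [e]
    exact hMV _ (inv_mem ha) _ (inv_mem (ha2 y hy))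

/-- the elements of `M` which act on `V` like an element of `D` -/
def Md (M V D : Subgroup G) (hMV : ∀ g ∈ M, ∀ v ∈ V, g * v * g⁻¹ ∈ V) (hDM : D ≤ M) : Subgroup G where
  carrier := {k | k ∈ M ∧ ∃ d ∈ D, ∀ v ∈ V, k * v * k⁻¹ = d * v * d⁻¹}
  mul_mem' := by
    rintro a b ⟨ha, d, hd, ha2⟩ ⟨hb, d', hd', hb2⟩
    refine ⟨mul_mem ha hb, d * d', mul_mem hd hd', fun v hv => ?_⟩
    have e : a * b * v * (a * b)⁻¹ = a * (b * v * b⁻¹) * a⁻¹ := by group
    rw [e, hb2 v hv, ha2 _ (hMV d' (hDM hd') v hv)]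
    group
  one_mem' := ⟨one_mem _, 1, one_mem _, fun _ _ => rfl⟩
  inv_mem' := by
    rintro a ⟨ha, d, hd, ha2⟩
    refine ⟨inv_mem ha, d⁻¹, inv_mem hd, fun v hv => ?_⟩
    have h1 := hMV a⁻¹ (inv_mem ha) v hv
    have h2 := ha2 _ h1
    have e1 : a * (a⁻¹ * v * a⁻¹⁻¹) * a⁻¹ = v := by group
    rw [e1] at h2
    calc a⁻¹ * v * a⁻¹⁻¹ = d⁻¹ * (d * (a⁻¹ * v * a⁻¹⁻¹) * d⁻¹) * d⁻¹⁻¹ := by group
      _ = _ := by rw [← h2]

/-- the elements of `M` which centralise `V` and `Y / V` -/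
def Kr (M V Y : Subgroup G) (hMV : ∀ g ∈ M, ∀ v ∈ V, g * v * g⁻¹ ∈ V) : Subgroup G := Mq M V Y hMV ⊓ centralizer (V : Set G)

theorem mem_Kr {M V Y : Subgroup G} {hMV : ∀ g ∈ M, ∀ v ∈ V, g * v * g⁻¹ ∈ V} {k : G} :
    k ∈ Kr M V Y hMV ↔ k ∈ M ∧ (∀ v ∈ V, k * v = v * k) ∧ ∀ y ∈ Y, k * y * k⁻¹ * y⁻¹ ∈ V := by
  rw [Kr, mem_inf, mem_centralizer_iff]
  constructor
  · rintro ⟨⟨h1, h2⟩, h3⟩
    exact ⟨h1, fun v hv => (h3 v hv).symm, h2⟩
  · rintro ⟨h1, h2, h3⟩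
    exact ⟨⟨h1, h3⟩, fun v hv => (h2 v hv).symm⟩

variable [Finite G] {ι : Type} {S : Sylow 2 G} {M V : Subgroup G} {N D l C : ι → Subgroup G} {q : ℕ}
  {X L J Y : Subgroup G} {AA : Set (Subgroup G)}

section core

variable (b : Bq S M V N D l C q)
include b

/-- the fixed points of `A`, `A^w` on `V` -/
theorem Wy.mem_C {A : Subgroup G} {w : G} {i : ι} (h : Wy M V N D l C A w i) {v : G} (hv : v ∈ V)
    (h1 : ∀ a ∈ A, a * v = v * a) (h2 : ∀ a ∈ A, w * a * w⁻¹ * v = v * (w * a * w⁻¹)) : v ∈ C i := by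
  obtain ⟨n, hn, c, hc, rfl⟩ := b.WC i v hv
  have hwc : w * c = c * w := b.DC i w h.wD c hc
  have h3 : n ∈ l i := by
    refine h.fix n hn fun a ha => ?_
    have c1 : Commute a (n * c) := h1 a ha
    have c2 : Commute a c := h.Ac a ha c hc
    have e : n = n * c * c⁻¹ := by group
    rw [e]
    exact (c1.mul_right c2.inv_right).eq
  have hwn : w⁻¹ * n * w ∈ N i := by
    obtain ⟨F, _, _, _, e, hF, c, s⟩ := b.nat i
    have h4 := s.nD w⁻¹ (inv_mem h.wD) n hn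
    rwa [inv_inv] at h4
  have h4 : w⁻¹ * n * w ∈ l i := by
    refine h.fix _ hwn fun a ha => ?_
    have c1 : Commute (w * a * w⁻¹) (n * c) := h2 a ha
    have c3 : Commute w c := hwc
    have c4 : Commute a c := h.Ac a ha c hc
    have c2 : Commute (w * a * w⁻¹) c := (c3.mul_left c4).mul_left c3.inv_left
    have e : n = n * c * c⁻¹ := by group
    have c5 : w * a * w⁻¹ * n = n * (w * a * w⁻¹) := by
      conv_lhs => rw [e]
      conv_rhs => rw [e]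
      exact (c1.mul_right c2.inv_right).eq
    have h5 := congrArg (fun t => w⁻¹ * t * w) c5
    calc a * (w⁻¹ * n * w) = w⁻¹ * (w * a * w⁻¹ * n) * w := by group
      _ = w⁻¹ * (n * (w * a * w⁻¹)) * w := h5
      _ = w⁻¹ * n * w * a := by group
  have h5 := h.ll n h3 h4
  rw [h5, one_mul]
  exact hc

/-- `A^w` centralises `C i` -/
theorem Wy.Awc {A : Subgroup G} {w : G} {i : ι} (h : Wy M V N D l C A w i) {a : G} (ha : a ∈ A) {c : G} (hc : c ∈ C i) :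
    Commute (w * a * w⁻¹) c := by
  have c1 : Commute w c := b.DC i w h.wD c hc
  have c2 : Commute a c := h.Ac a ha c hc
  exact (c1.mul_left c2).mul_left c1.inv_left

/-- the elements of `M` acting trivially on `Y / V` and like `D i` on `V` -/
def Gs (Y : Subgroup G) (i : ι) : Subgroup G := Mq M V Y b.MV ⊓ Md M V (D i) b.MV (b.DM i)

theorem co_mem {g : G} (hg : g ∈ M) (hYc : ∀ x ∈ Y, ∀ y ∈ Y, x * y = y * x) (hVY : V ≤ Y) {y n : G} (hy : y ∈ Y)
    (hn : n ∈ V) (e : g * (y * n) = y * n * g) : g * y * g⁻¹ * y⁻¹ ∈ V := by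
  have h1 : g * n⁻¹ * g⁻¹ ∈ V := b.MV g hg _ (inv_mem hn)
  have e1 : g * y * g⁻¹ = y * n * (g * n⁻¹ * g⁻¹) := by
    calc g * y * g⁻¹ = (g * (y * n)) * n⁻¹ * g⁻¹ := by group
      _ = y * n * (g * n⁻¹ * g⁻¹) := by rw [e]; group
  rw [e1]
  have e2 : y * n * (g * n⁻¹ * g⁻¹) * y⁻¹ = y * (n * (g * n⁻¹ * g⁻¹)) * y⁻¹ := by group
  have h2 := mul_mem hn h1
  rw [e2, hYc y hy _ (hVY h2), mul_inv_cancel_right]
  exact h2

/-- the two members lie in `Gs` -/
theorem sup_le_Gs {A : Subgroup G} {w : G} {i : ι} (h : Wy M V N D l C A w i) (hYc : ∀ x ∈ Y, ∀ y ∈ Y, x * y = y * x)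
    (hVY : V ≤ Y) (hMY : ∀ m ∈ M, ∀ y ∈ Y, m * y * m⁻¹ ∈ Y)
    (hg : ∀ y ∈ Y, ∃ n ∈ N i, ∀ a ∈ A, a * (y * n) = y * n * a) : A ⊔ cj w A ≤ Gs b Y i := by
  have hwM : w ∈ M := b.DM i h.wD
  have hA : A ≤ Gs b Y i := fun a ha => by
    refine ⟨⟨h.AM ha, fun y hy => ?_⟩, h.AM ha, h.act a ha⟩
    obtain ⟨n, hn, e⟩ := hg y hy
    exact co_mem b (h.AM ha) hYc hVY hy (b.NV i hn) (e a ha)
  refine sup_le hA ?_
  rintro _ ⟨a, ha, rfl⟩
  obtain ⟨⟨h1, h2⟩, -, d, hd, h3⟩ := hA ha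
  have hM : w * a * w⁻¹ ∈ M := mul_mem (mul_mem hwM h1) (inv_mem hwM)
  refine ⟨⟨hM, fun y hy => ?_⟩, hM, w * d * w⁻¹, mul_mem (mul_mem h.wD hd) (inv_mem h.wD), fun v hv => ?_⟩
  · have h4 := hMY w⁻¹ (inv_mem hwM) y hy
    have h5 := b.MV w hwM _ (h2 _ h4)
    have e : w * (a * (w⁻¹ * y * w⁻¹⁻¹) * a⁻¹ * (w⁻¹ * y * w⁻¹⁻¹)⁻¹) * w⁻¹ = w * a * w⁻¹ * y * (w * a * w⁻¹)⁻¹ * y⁻¹ := by
      group
    rwa [e] at h5
  · have h4 := h3 _ (b.MV w⁻¹ (inv_mem hwM) v hv)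
    have h5 := congrArg (fun t => w * t * w⁻¹) h4
    show w * a * w⁻¹ * v * (w * a * w⁻¹)⁻¹ = _
    calc w * a * w⁻¹ * v * (w * a * w⁻¹)⁻¹ = w * (a * (w⁻¹ * v * w⁻¹⁻¹) * a⁻¹) * w⁻¹ := by group
      _ = w * (d * (w⁻¹ * v * w⁻¹⁻¹) * d⁻¹) * w⁻¹ := h5
      _ = _ := by group

/-- **No fixed points outside `V`.** -/
theorem core [Finite ι] (hVY : V ≤ Y) (hYc : ∀ x ∈ Y, ∀ y ∈ Y, x * y = y * x) (hY2 : ∀ y ∈ Y, y * y = 1)
    (hMY : ∀ m ∈ M, ∀ y ∈ Y, m * y * m⁻¹ ∈ Y)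
    (hK : ∀ k ∈ Kr M V Y b.MV, ∀ y ∈ Y, k * y = y * k)
    (hG : ∀ i, ∃ (A : Subgroup G) (w : G), Wy M V N D l C A w i ∧ ∀ y ∈ Y, ∃ n ∈ N i, ∀ a ∈ A, a * (y * n) = y * n * a)
    (hfix : ∀ y ∈ Y, (∀ s ∈ S, s * y = y * s) → y ∈ V) : Y ≤ V := by
  classical
  have := Fintype.ofFinite ι
  choose A w hW hg using hG
  have hsup : ∀ i, A i ⊔ cj (w i) (A i) ≤ Gs b Y i := fun i => sup_le_Gs b (hW i) hYc hVY hMY (hg i)
  -- the fixed points
  let C₀ : Subgroup G := Y ⊓ ⨅ i, centralizer (Gs b Y i : Set G)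
  have memC₀ : ∀ c, c ∈ C₀ ↔ c ∈ Y ∧ ∀ i, ∀ g ∈ Gs b Y i, g * c = c * g := by
    intro c
    show c ∈ Y ⊓ ⨅ i, centralizer (Gs b Y i : Set G) ↔ _
    rw [mem_inf, mem_iInf]
    exact and_congr_right fun _ => forall_congr' fun i => mem_centralizer_iff
  have hCV : ∀ c ∈ C₀, c ∈ V → c = 1 := by
    intro c hc hcV
    rw [memC₀] at hc
    refine b.C0 c hcV fun i => Wy.mem_C b (hW i) hcV (fun a ha => hc.2 i a (hsup i (mem_sup_left ha))) fun a ha =>
      hc.2 i _ (hsup i (mem_sup_right ⟨a, ha, rfl⟩))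
  have hCS : ∀ s ∈ (S : Subgroup G), ∀ c ∈ C₀, s * c * s⁻¹ ∈ C₀ := by
    intro s hs c hc
    have hsM := b.SM hs
    rw [memC₀] at hc ⊢
    refine ⟨hMY s hsM c hc.1, fun i g hg => ?_⟩
    obtain ⟨j, -, -, hj⟩ := b.permS s⁻¹ (inv_mem hs) i
    obtain ⟨⟨h1, h2⟩, -, d, hd, h3⟩ := hg
    have hM : s⁻¹ * g * s⁻¹⁻¹ ∈ M := mul_mem (mul_mem (inv_mem hsM) h1) (inv_mem (inv_mem hsM))
    have h4 : s⁻¹ * g * s⁻¹⁻¹ ∈ Gs b Y j := by
      refine ⟨⟨hM, fun y hy => ?_⟩, hM, s⁻¹ * d * s⁻¹⁻¹, hj ▸ ⟨d, hd, rfl⟩, fun v hv => ?_⟩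
      · have h5 := b.MV s⁻¹ (inv_mem hsM) _ (h2 _ (hMY s hsM y hy))
        have e : s⁻¹ * (g * (s * y * s⁻¹) * g⁻¹ * (s * y * s⁻¹)⁻¹) * s⁻¹⁻¹ =
            s⁻¹ * g * s⁻¹⁻¹ * y * (s⁻¹ * g * s⁻¹⁻¹)⁻¹ * y⁻¹ := by group
        rwa [e] at h5
      · have h5 := congrArg (fun t => s⁻¹ * t * s) (h3 _ (b.MV s hsM v hv))
        calc s⁻¹ * g * s⁻¹⁻¹ * v * (s⁻¹ * g * s⁻¹⁻¹)⁻¹ = s⁻¹ * (g * (s * v * s⁻¹) * g⁻¹) * s := by group
          _ = s⁻¹ * (d * (s * v * s⁻¹) * d⁻¹) * s := h5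
          _ = _ := by group
    have h5 := congrArg (fun t => s * t * s⁻¹) (hc.2 j _ h4)
    calc g * (s * c * s⁻¹) = s * (s⁻¹ * g * s⁻¹⁻¹ * c) * s⁻¹ := by group
      _ = s * (c * (s⁻¹ * g * s⁻¹⁻¹)) * s⁻¹ := h5
      _ = _ := by group
  have hC1 : C₀ = ⊥ := by
    by_contra hne
    have hC2 : ∀ c ∈ C₀, c * c = 1 := fun c hc => hY2 c ((memC₀ c).1 hc).1
    obtain ⟨c, hc, hc1, hcS⟩ := BFr.exists_fix_ne S.isPGroup' hC2 hne hCS
    exact hc1 (hCV c hc (hfix c ((memC₀ c).1 hc).1 hcS))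
  intro y hy
  -- the splitting
  have key : ∀ t : Finset ι, ∃ v ∈ V, ∀ i ∈ t, ∀ a ∈ A i, Commute a (y * v) ∧ Commute (w i * a * (w i)⁻¹) (y * v) := by
    intro t
    induction t using Finset.induction_on with
    | empty => exact ⟨1, one_mem _, fun i hi => absurd hi (Finset.notMem_empty i)⟩
    | insert j t hj ih =>
      obtain ⟨v, hv, h1⟩ := ih
      have hyv : y * v ∈ Y := mul_mem hy (hVY hv)
      have hwM := b.DM j (hW j).wD
      obtain ⟨n₁, hn₁, h2⟩ := hg j (y * v) hyv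
      obtain ⟨n₂, hn₂, h3⟩ := hg j _ (hMY (w j)⁻¹ (inv_mem hwM) (y * v) hyv)
      obtain ⟨F, _, _, _, e, hF, c, s⟩ := b.nat j
      have hn₃ : w j * n₂ * (w j)⁻¹ ∈ N j := s.nD _ (hW j).wD n₂ hn₂
      obtain ⟨p, hp, p', hp', hpe⟩ := (hW j).split (n₁⁻¹ * (w j * n₂ * (w j)⁻¹)) (mul_mem (inv_mem hn₁) hn₃)
      have hpN := b.lN j hp
      have hpN' : w j * p' * (w j)⁻¹ ∈ N j := s.nD _ (hW j).wD p' (b.lN j hp')
      have hnN : n₁ * p ∈ N j := mul_mem hn₁ hpN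
      refine ⟨v * (n₁ * p), mul_mem hv (b.NV j hnN), fun i hi a ha => ?_⟩
      by_cases hij : i = j
      · subst hij
        constructor
        · have c1 : Commute a (y * v * n₁) := h2 a ha
          have c2 : Commute a p := (hW i).Al a ha p hp
          have e1 : y * (v * (n₁ * p)) = (y * v * n₁) * p := by group
          rw [e1]
          exact c1.mul_right c2
        · have e1 : y * (v * (n₁ * p)) = (y * v) * (w i * n₂ * (w i)⁻¹) * (w i * p' * (w i)⁻¹)⁻¹ := by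
            have e2 : n₁ * p = (w i * n₂ * (w i)⁻¹) * (w i * p' * (w i)⁻¹)⁻¹ := by
              have e3 : n₁ * p * (w i * p' * (w i)⁻¹) = w i * n₂ * (w i)⁻¹ := by
                rw [mul_assoc, ← hpe]; group
              rw [← e3]; group
            rw [e2]; group
          have c1 : Commute (w i * a * (w i)⁻¹) ((y * v) * (w i * n₂ * (w i)⁻¹)) := by
            have h4 := congrArg (fun t => w i * t * (w i)⁻¹) (h3 a ha)
            show w i * a * (w i)⁻¹ * ((y * v) * (w i * n₂ * (w i)⁻¹)) = _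
            calc w i * a * (w i)⁻¹ * ((y * v) * (w i * n₂ * (w i)⁻¹)) =
                w i * (a * ((w i)⁻¹ * (y * v) * (w i)⁻¹⁻¹ * n₂)) * (w i)⁻¹ := by group
              _ = w i * ((w i)⁻¹ * (y * v) * (w i)⁻¹⁻¹ * n₂ * a) * (w i)⁻¹ := h4
              _ = _ := by group
          have c2 : Commute (w i * a * (w i)⁻¹) (w i * p' * (w i)⁻¹) := by
            have h4 := congrArg (fun t => w i * t * (w i)⁻¹) ((hW i).Al a ha p' hp')
            show w i * a * (w i)⁻¹ * (w i * p' * (w i)⁻¹) = _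
            calc w i * a * (w i)⁻¹ * (w i * p' * (w i)⁻¹) = w i * (a * p') * (w i)⁻¹ := by group
              _ = w i * (p' * a) * (w i)⁻¹ := h4
              _ = _ := by group
          rw [e1]
          exact c1.mul_right c2.inv_right
      · have hit : i ∈ t := (Finset.mem_insert.1 hi).resolve_left hij
        obtain ⟨h4, h5⟩ := h1 i hit a ha
        have hnC : n₁ * p ∈ C i := b.WjC i j hij hnN
        have e1 : y * (v * (n₁ * p)) = (y * v) * (n₁ * p) := by group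
        rw [e1]
        exact ⟨h4.mul_right ((hW i).Ac a ha _ hnC), h5.mul_right (Wy.Awc b (hW i) ha hnC)⟩
  obtain ⟨v, hv, h1⟩ := key Finset.univ
  have hyv : y * v ∈ C₀ := by
    refine (memC₀ _).2 ⟨mul_mem hy (hVY hv), fun i g hg' => ?_⟩
    have hcom : A i ⊔ cj (w i) (A i) ≤ centralizer ({y * v} : Set G) := by
      refine sup_le (fun a ha => mem_centralizer_singleton_iff.2 (h1 i (Finset.mem_univ i) a ha).1.eq) ?_
      rintro _ ⟨a, ha, rfl⟩
      exact mem_centralizer_singleton_iff.2 (h1 i (Finset.mem_univ i) a ha).2.eq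
    obtain ⟨⟨h2, h3⟩, -, d, hd, h4⟩ := hg'
    obtain ⟨k, hk, h5⟩ := (hW i).gen d hd
    obtain ⟨h6, -⟩ := hsup i hk
    have hkg : k⁻¹ * g ∈ Kr M V Y b.MV := by
      have h7 : k⁻¹ * g ∈ Mq M V Y b.MV := mul_mem (inv_mem h6) ⟨h2, h3⟩
      refine mem_Kr.2 ⟨h7.1, fun x hx => ?_, h7.2⟩
      have h8 : g * x * g⁻¹ = k * x * k⁻¹ := (h4 x hx).trans (h5 x hx).symm
      calc k⁻¹ * g * x = k⁻¹ * (g * x * g⁻¹) * g := by group
        _ = k⁻¹ * (k * x * k⁻¹) * g := by rw [h8]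
        _ = x * (k⁻¹ * g) := by group
    have c1 : Commute (k⁻¹ * g) (y * v) := hK _ hkg _ (mul_mem hy (hVY hv))
    have c2 : Commute k (y * v) := mem_centralizer_singleton_iff.1 (hcom hk)
    have e1 : g = k * (k⁻¹ * g) := by group
    rw [e1]
    exact (c2.mul_left c1).eq
  rw [hC1, mem_bot, mul_eq_one_iff_eq_inv] at hyv
  rw [hyv]
  exact inv_mem hv

/-- The elements of `K` of 2-power order decide. -/
theorem comm_of_two {y : G} (hy : y ∈ Y) (h2 : ∀ k ∈ Kr M V Y b.MV, IsPGroup 2 (zpowers k) → k * y = y * k) {k : G}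
    (hk : k ∈ Kr M V Y b.MV) : k * y = y * k := by
  obtain ⟨hkM, hkV, hk2⟩ := mem_Kr.1 hk
  have hsq : (k * k) * y = y * (k * k) := by
    have h3 := hk2 y hy
    set v := k * y * k⁻¹ * y⁻¹ with hv
    have e1 : k * y = v * y * k := by rw [hv]; group
    have e2 : k * v = v * k := hkV v h3
    have e3 : v * v = 1 := by rw [← pow_two]; exact elem_sq b.el v h3
    calc k * k * y = k * (k * y) := by group
      _ = (k * v) * y * k := by rw [e1]; group
      _ = v * (k * y) * k := by rw [e2]; group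
      _ = (v * v) * y * (k * k) := by rw [e1]; group
      _ = y * (k * k) := by rw [e3, one_mul]
  obtain ⟨a, m, hm, hn⟩ := Nat.exists_eq_two_pow_mul_odd (n := orderOf k) (orderOf_pos k).ne'
  have h3 : k ^ m ∈ Kr M V Y b.MV := (Kr M V Y b.MV).pow_mem hk m
  have h4 : IsPGroup 2 (zpowers (k ^ m)) := by
    refine IsPGroup.of_card (n := a) ?_
    rw [Nat.card_zpowers, orderOf_pow, hn, Nat.gcd_eq_right (Dvd.intro_left _ rfl), Nat.mul_div_cancel _ hm.pos]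
  have h5 := h2 _ h3 h4
  obtain ⟨j, hj⟩ := hm
  have e1 : k = k ^ m * ((k * k) ^ j)⁻¹ := by
    rw [hj, ← pow_two, ← pow_mul, pow_succ']
    group
  have c1 : Commute (k ^ m) y := h5
  have c2 : Commute (k * k) y := hsq
  rw [e1]
  exact (c1.mul_left (c2.pow_left j).inv_left).eq

/-- `[k^l, w] = [k, w]^l` -/
theorem phi_conj {k w l : G} (hk : ∀ v ∈ V, k * v = v * k) (hu : k * w * k⁻¹ * w⁻¹ ∈ V) (hc : l⁻¹ * w * l * w⁻¹ ∈ V) :
    l * k * l⁻¹ * w * (l * k * l⁻¹)⁻¹ * w⁻¹ = l * (k * w * k⁻¹ * w⁻¹) * l⁻¹ := by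
  have uc := b.Vc hu hc
  set u := k * w * k⁻¹ * w⁻¹ with hu'
  set c := l⁻¹ * w * l * w⁻¹ with hc'
  have e1 : k * w * k⁻¹ = u * w := by rw [hu']; group
  have e2 : l⁻¹ * w * l = c * w := by rw [hc']; group
  calc l * k * l⁻¹ * w * (l * k * l⁻¹)⁻¹ * w⁻¹ = l * k * (l⁻¹ * w * l) * k⁻¹ * l⁻¹ * w⁻¹ := by group
    _ = l * (k * c) * w * k⁻¹ * l⁻¹ * w⁻¹ := by rw [e2]; group
    _ = l * c * (k * w * k⁻¹) * l⁻¹ * w⁻¹ := by rw [hk c hc]; group
    _ = l * (c * u) * w * l⁻¹ * w⁻¹ := by rw [e1]; group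
    _ = l * u * (c * w) * l⁻¹ * w⁻¹ := by rw [← uc]; group
    _ = l * u * l⁻¹ := by rw [← e2]; group

theorem MQn {g x : G} (hg : g ∈ M) (hx : x ∈ (S : Subgroup G) ⊓ centralizer (V : Set G)) :
    g * x * g⁻¹ ∈ (S : Subgroup G) ⊓ centralizer (V : Set G) := by
  refine ⟨b.MQ g hg x hx, mem_centralizer_iff.2 fun v hv => ?_⟩
  have h1 := b.MV g⁻¹ (inv_mem hg) v hv
  rw [inv_inv] at h1
  have h2 := mem_centralizer_iff.1 hx.2 _ h1
  calc v * (g * x * g⁻¹) = g * ((g⁻¹ * v * g) * x) * g⁻¹ := by group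
    _ = g * x * g⁻¹ * v := by rw [h2]; group

theorem M_norm_Q : M ≤ normalizer (((S : Subgroup G) ⊓ centralizer (V : Set G) : Subgroup G) : Set G) := by
  intro m hm
  rw [mem_normalizer_iff]
  intro x
  refine ⟨fun hx => MQn b hm hx, fun hx => ?_⟩
  have h1 := MQn b (inv_mem hm) hx
  have e : m⁻¹ * (m * x * m⁻¹) * m⁻¹⁻¹ = x := by group
  rwa [e] at h1

end core

variable (b : Bq S M V N D l C q) (lv : LvQ S M V N X L J AA)
include b lv

/-- **The members are good on `Y`.** -/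
theorem gd (hYX : Y ≤ X) (hYB : ∀ B ∈ AA, B ≤ centralizer (V : Set G) → ∀ b ∈ B, ∀ y ∈ Y, b * y = y * b)
    {A : Subgroup G} (hA : A ∈ AA) {i : ι} (hi : ¬ A ≤ centralizer (N i : Set G)) (hc : ∀ a ∈ A, ∀ c ∈ C i, a * c = c * a) :
    ∀ y ∈ Y, ∃ n ∈ N i, ∀ a ∈ A, a * (y * n) = y * n * a := by
  intro y hy
  obtain ⟨h1, h2⟩ := peel b lv hA hi
  have hXc := elem_comm lv.elX
  have hNX : N i ≤ X := (b.NV i).trans lv.VX
  set F := A ⊓ centralizer (N i : Set G) with hF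
  have hcX : centralizer (X : Set G) ≤ centralizer (V : Set G) := centralizer_le lv.VX
  have hAF : A ⊓ centralizer (X : Set G) ≤ F := inf_le_inf_left _ (centralizer_le hNX)
  obtain ⟨B', hB', hBF⟩ := lv.fam.cut A hA F hAF inf_le_left h1
  have hyX : y ∈ X := hYX hy
  have hcy : centralizer (X : Set G) ≤ centralizer ({y} : Set G) := centralizer_le (Set.singleton_subset_iff.2 hyX)
  have hFV : F ≤ centralizer (V : Set G) := by
    intro f hf
    refine mem_centralizer_iff.2 fun v hv => ?_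
    obtain ⟨n, hn, c, hc', rfl⟩ := b.WC i v hv
    have c1 : Commute f n := (mem_centralizer_iff.1 hf.2 n hn).symm
    have c2 : Commute f c := hc f hf.1 c hc'
    exact (c1.mul_right c2).symm.eq
  have hB'V : B' ≤ centralizer (V : Set G) := (le_sup_left.trans hBF.le).trans (sup_le hFV hcX)
  have hFy : F ≤ centralizer ({y} : Set G) :=
    (le_sup_left.trans hBF.ge).trans (sup_le (fun b hb => mem_centralizer_singleton_iff.2 (hYB B' hB' hB'V b hb y hy)) hcy)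
  have hyF : y ∈ X ⊓ centralizer (F : Set G) :=
    ⟨hyX, mem_centralizer_iff.2 fun f hf => mem_centralizer_singleton_iff.1 (hFy hf)⟩
  rw [h2] at hyF
  obtain ⟨v, hv, c, hc', e⟩ := (mem_sup_comm (A := N i) (B := X ⊓ centralizer (A : Set G))
    (fun v hv x hx => hXc v (hNX hv) x hx.1) hyF)
  refine ⟨v⁻¹, inv_mem hv, fun a ha => ?_⟩
  have e1 : y * v⁻¹ = c := by
    rw [e, hXc v (hNX hv) c hc'.1, mul_inv_cancel_right]
  rw [e1]
  exact mem_centralizer_iff.1 hc'.2 a ha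

theorem exists_gd [Finite ι] (hYX : Y ≤ X)
    (hYB : ∀ B ∈ AA, B ≤ centralizer (V : Set G) → ∀ b ∈ B, ∀ y ∈ Y, b * y = y * b) (i : ι) :
    ∃ (A : Subgroup G) (w : G), A ≤ J ∧ Wy M V N D l C A w i ∧
      ∀ y ∈ Y, ∃ n ∈ N i, ∀ a ∈ A, a * (y * n) = y * n * a := by
  obtain ⟨A, hA, w, -, h1, h2, h3⟩ := exists_wy b lv i
  exact ⟨A, w, h1, h3, gd b lv hYX hYB hA h2 h3.Ac⟩

/-- **`Ω₁(Z(C_S(V))) ≤ V`.** -/
theorem zcQ [Finite ι] (hZV : zc (S : Subgroup G) ≤ V)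
    (hQX : zc ((S : Subgroup G) ⊓ centralizer (V : Set G)) ≤ X) :
    zc ((S : Subgroup G) ⊓ centralizer (V : Set G)) ≤ V := by
  set Q := (S : Subgroup G) ⊓ centralizer (V : Set G) with hQ
  have hVQ : V ≤ Q := fun v hv => ⟨b.VS hv, mem_centralizer_iff.2 fun u hu => b.Vc hu hv⟩
  have hVY : V ≤ zc Q := fun v hv => ChoiceBase.mem_zc.2
    ⟨hVQ hv, elem_sq b.el v hv, fun y hy => (mem_centralizer_iff.1 hy.2 v hv).symm⟩
  have hMY : ∀ m ∈ M, ∀ y ∈ zc Q, m * y * m⁻¹ ∈ zc Q := fun m hm y hy =>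
    (mem_normalizer_iff.1 (Cfsg.Agent.Omega.NO3S.Level.normalizer_le_zc Q (M_norm_Q b hm)) y).1 hy
  have hgd := exists_gd (Y := zc Q) b lv hQX (fun B hB hBV b' hb' y hy =>
    (ChoiceBase.mem_zc.1 hy).2.2 b' ⟨lv.fam.le B hB hb', hBV hb'⟩)
  refine core b hVY (fun x hx y hy => (ChoiceBase.mem_zc.1 hy).2.2 x (ChoiceBase.mem_zc.1 hx).1)
    (fun y hy => by rw [← pow_two]; exact (ChoiceBase.mem_zc.1 hy).2.1) hMY (fun k hk y hy => ?_)
    (fun i => ?_) (fun y hy hyS => ?_)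
  · refine comm_of_two b hy (fun k hk hk' => ?_) hk
    obtain ⟨hkM, hkV, -⟩ := mem_Kr.1 hk
    obtain ⟨m, hm, hmS⟩ := BFr.exists_into S b.SM hk' (by rw [zpowers_le]; exact hkM)
    have h1 : m * k * m⁻¹ ∈ (S : Subgroup G) := hmS ⟨k, mem_zpowers k, rfl⟩
    have h2 : m * k * m⁻¹ ∈ Q := by
      refine ⟨h1, mem_centralizer_iff.2 fun v hv => ?_⟩
      have h3 := b.MV m⁻¹ (inv_mem hm) v hv
      rw [inv_inv] at h3
      have h4 := hkV _ h3
      calc v * (m * k * m⁻¹) = m * ((m⁻¹ * v * m) * k) * m⁻¹ := by group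
        _ = m * k * m⁻¹ * v := by rw [← h4]; group
    have h3 := (ChoiceBase.mem_zc.1 (hMY m hm y hy)).2.2 _ h2
    have h4 := congrArg (fun t => m⁻¹ * t * m) h3
    simpa [mul_assoc] using h4
  · obtain ⟨A, w, -, h1, h2⟩ := hgd i
    exact ⟨A, w, h1, h2⟩
  · have h1 := ChoiceBase.mem_zc.1 hy
    exact hZV (ChoiceBase.mem_zc.2 ⟨h1.1.1, h1.2.1, hyS⟩)

/-- **`ZcQ`.** -/
theorem zcQ' [Finite ι] (hZV : zc (S : Subgroup G) ≤ V)
    (hQX : zc ((S : Subgroup G) ⊓ centralizer (V : Set G)) ≤ X) : ZcQ (S : Subgroup G) V := fun _ hx h2 hc =>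
  zcQ b lv hZV hQX (ChoiceBase.mem_zc.2 ⟨hx, h2, fun y hy => (hc y hy).symm⟩)

/-- **an `S`-invariant subgroup of `X` centralised by `J` lies in `V`.** -/
theorem le_of_cent [Finite ι] (hZV : zc (S : Subgroup G) ≤ V) {W : Subgroup G} (hWX : W ≤ X)
    (hWJ : ∀ w ∈ W, ∀ j ∈ J, j * w = w * j) (hWS : ∀ s ∈ S, ∀ w ∈ W, s * w * s⁻¹ ∈ W) : W ≤ V := by
  have hXc := elem_comm lv.elX
  set Y : Subgroup G := V ⊔ ⨆ m : M, cj (m : G) W with hY
  have hVY : V ≤ Y := le_sup_left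
  have hWY : ∀ m ∈ M, cj m W ≤ Y := fun m hm => (le_iSup (fun m : M => cj (m : G) W) ⟨m, hm⟩).trans le_sup_right
  have hWY' : W ≤ Y := by
    have := hWY 1 (one_mem _)
    rwa [cj_one] at this
  have hYX : Y ≤ X := by
    refine sup_le lv.VX (iSup_le fun m => ?_)
    rintro _ ⟨w, hw, rfl⟩
    exact lv.MX m m.2 w (hWX hw)
  have hYc : ∀ x ∈ Y, ∀ y ∈ Y, x * y = y * x := fun x hx y hy => hXc x (hYX hx) y (hYX hy)
  have hY2 : ∀ y ∈ Y, y * y = 1 := fun y hy => by rw [← pow_two]; exact elem_sq lv.elX y (hYX hy)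
  have hMY : ∀ m ∈ M, ∀ y ∈ Y, m * y * m⁻¹ ∈ Y := by
    intro m hm
    have h1 : cj m Y ≤ Y := by
      rw [hY]
      show Subgroup.map _ _ ≤ _
      rw [Subgroup.map_sup, Subgroup.map_iSup]
      refine sup_le ?_ (iSup_le fun m' => ?_)
      · rintro _ ⟨v, hv, rfl⟩
        exact hVY (b.MV m hm v hv)
      · have e : Subgroup.map (MulAut.conj m).toMonoidHom (cj (m' : G) W) = cj (m * m') W := cj_cj m (m' : G) W
        rw [e]
        exact hWY _ (mul_mem hm m'.2)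
    exact fun y hy => h1 ⟨y, hy, rfl⟩
  -- members of `AA` which centralise `V` centralise `Y`
  have hYB : ∀ B ∈ AA, B ≤ centralizer (V : Set G) → ∀ b ∈ B, ∀ y ∈ Y, b * y = y * b := by
    intro B hB hBV b' hb
    have h1 : Y ≤ centralizer ({b'} : Set G) := by
      refine sup_le (fun v hv => mem_centralizer_singleton_iff.2 (mem_centralizer_iff.1 (hBV hb) v hv)) (iSup_le ?_)
      rintro ⟨m, hm⟩ _ ⟨w, hw, rfl⟩
      have h2 : cj m⁻¹ B ≤ (S : Subgroup G) := by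
        rintro _ ⟨c, hc, rfl⟩
        exact b.MQ m⁻¹ (inv_mem hm) c ⟨lv.fam.le B hB hc, hBV hc⟩
      have h3 := lv.fam.conj B hB m⁻¹ (lv.ML (inv_mem hm)) h2
      have h4 := hWJ w hw (m⁻¹ * b' * m⁻¹⁻¹) (lv.AJ _ h3 ⟨b', hb, rfl⟩)
      rw [mem_centralizer_singleton_iff]
      show m * w * m⁻¹ * b' = b' * (m * w * m⁻¹)
      have h5 := congrArg (fun t => m * t * m⁻¹) h4
      simpa [mul_assoc] using h5.symm
    exact fun y hy => (mem_centralizer_singleton_iff.1 (h1 hy)).symm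
  have hgd := exists_gd b lv hYX hYB
  have hKV : ∀ k ∈ Kr M V Y b.MV, ∀ v ∈ V, k * v = v * k := fun k hk => (mem_Kr.1 hk).2.1
  have hKn : ∀ m ∈ M, ∀ k ∈ Kr M V Y b.MV, m * k * m⁻¹ ∈ Kr M V Y b.MV := by
    intro m hm k hk
    obtain ⟨h1, h2, h3⟩ := mem_Kr.1 hk
    refine mem_Kr.2 ⟨mul_mem (mul_mem hm h1) (inv_mem hm), fun v hv => ?_, fun y hy => ?_⟩
    · have h4 := h2 _ (b.MV m⁻¹ (inv_mem hm) v hv)
      have h5 := congrArg (fun t => m * t * m⁻¹) h4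
      calc m * k * m⁻¹ * v = m * (k * (m⁻¹ * v * m⁻¹⁻¹)) * m⁻¹ := by group
        _ = m * (m⁻¹ * v * m⁻¹⁻¹ * k) * m⁻¹ := h5
        _ = _ := by group
    · have h4 := hMY m⁻¹ (inv_mem hm) y hy
      rw [inv_inv] at h4
      have h5 := b.MV m hm _ (h3 _ h4)
      have e : m * (k * (m⁻¹ * y * m) * k⁻¹ * (m⁻¹ * y * m)⁻¹) * m⁻¹ = m * k * m⁻¹ * y * (m * k * m⁻¹)⁻¹ * y⁻¹ := by
        group
      rwa [e] at h5
  -- the value of `k ↦ [k, w]`
  have hphi : ∀ w ∈ W, ∀ k ∈ Kr M V Y b.MV, IsPGroup 2 (zpowers k) →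
      ∀ j ∈ J, j * (k * w * k⁻¹ * w⁻¹) = k * w * k⁻¹ * w⁻¹ * j := by
    intro w hw k hk hk' j hj
    have hKS : (S : Subgroup G) ≤ Kr M V Y b.MV ⊔ (S : Subgroup G) := le_sup_right
    obtain ⟨m, hm, hmS⟩ := BFr.exists_into S hKS hk' (by rw [zpowers_le]; exact mem_sup_left hk)
    rw [sup_comm] at hm
    obtain ⟨s, hs, g, hg, rfl⟩ := mem_sup_norm (A := (S : Subgroup G)) (B := Kr M V Y b.MV)
      (fun s hs => mem_normalizer_iff.2 fun c => ⟨fun hc => hKn s (b.SM hs) c hc, fun hc => by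
        have h3 := hKn _ (inv_mem (b.SM hs)) _ hc
        have e1 : s⁻¹ * (s * c * s⁻¹) * s⁻¹⁻¹ = c := by group
        rwa [e1] at h3⟩) hm
    have h1 : s * g * k * (s * g)⁻¹ ∈ (S : Subgroup G) := hmS ⟨k, mem_zpowers k, rfl⟩
    have h2 : g * k * g⁻¹ ∈ (S : Subgroup G) := by
      have h3 := mul_mem (mul_mem (inv_mem hs) h1) hs
      have e1 : s⁻¹ * (s * g * k * (s * g)⁻¹) * s = g * k * g⁻¹ := by group
      rwa [e1] at h3
    -- `[k^g, w] = [k, w]`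
    have h3 := (mem_Kr.1 hk).2.2 w (hWY' hw)
    have h4 := (mem_Kr.1 (inv_mem hg)).2.2 w (hWY' hw)
    rw [inv_inv] at h4
    have h5 := phi_conj b (hKV k hk) h3 h4
    have h6 : g * (k * w * k⁻¹ * w⁻¹) * g⁻¹ = k * w * k⁻¹ * w⁻¹ := by rw [hKV g hg _ h3]; group
    rw [h6] at h5
    have h7 : k * w * k⁻¹ * w⁻¹ ∈ W := by
      rw [← h5]
      exact mul_mem (hWS _ h2 w hw) (inv_mem hw)
    exact hWJ _ h7 j hj
  -- it is trivial
  have hphi1 : ∀ w ∈ W, ∀ k ∈ Kr M V Y b.MV, IsPGroup 2 (zpowers k) → k * w = w * k := by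
    intro w hw k hk hk'
    set u := k * w * k⁻¹ * w⁻¹ with hu
    have huV : u ∈ V := (mem_Kr.1 hk).2.2 w (hWY' hw)
    have hul : ∀ l ∈ Mq M V Y b.MV, ∀ j ∈ J, j * (l * u * l⁻¹) = l * u * l⁻¹ * j := by
      intro l hl j hj
      have h4 : l⁻¹ * w * l * w⁻¹ ∈ V := by
        have h5 := (inv_mem hl).2 w (hWY' hw)
        rwa [inv_inv] at h5
      rw [← phi_conj b (hKV k hk) huV h4]
      refine hphi w hw _ (hKn l hl.1 k hk) ?_ j hj
      have e : zpowers (l * k * l⁻¹) = cj l (zpowers k) := by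
        show _ = Subgroup.map _ _
        rw [MonoidHom.map_zpowers]
        rfl
      rw [e]
      exact hk'.map _
    have hu1 : u = 1 := by
      refine b.C0 u huV fun i => ?_
      obtain ⟨A, w', hAJ, hW, hg⟩ := hgd i
      have h1 : ∀ a ∈ A, a * u = u * a := fun a ha => hphi w hw k hk hk' a (hAJ ha)
      obtain ⟨x, hx, hx2⟩ := hW.gen _ (inv_mem hW.wD)
      have h2 := (sup_le_Gs b hW hYc hVY hMY hg hx).1
      refine Wy.mem_C b hW huV h1 fun a ha => ?_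
      have h3 := hul x h2 a (hAJ ha)
      rw [hx2 u huV, inv_inv] at h3
      have h4 := congrArg (fun t => w' * t * w'⁻¹) h3
      calc w' * a * w'⁻¹ * u = w' * (a * (w'⁻¹ * u * w')) * w'⁻¹ := by group
        _ = w' * (w'⁻¹ * u * w' * a) * w'⁻¹ := h4
        _ = _ := by group
    rw [hu] at hu1
    calc k * w = (k * w * k⁻¹ * w⁻¹) * (w * k) := by group
      _ = w * k := by rw [hu1, one_mul]
  refine hWY'.trans (core b hVY hYc hY2 hMY (fun k hk => ?_) (fun i => ?_) fun y hy hyS => ?_)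
  · have h1 : Y ≤ centralizer ({k} : Set G) := by
      refine sup_le (fun v hv => mem_centralizer_singleton_iff.2 (hKV k hk v hv).symm) (iSup_le ?_)
      rintro ⟨m, hm⟩ _ ⟨w, hw, rfl⟩
      have h2 := comm_of_two b (hWY' hw) (hphi1 w hw) (hKn m⁻¹ (inv_mem hm) k hk)
      rw [mem_centralizer_singleton_iff]
      show m * w * m⁻¹ * k = k * (m * w * m⁻¹)
      have h5 := congrArg (fun t => m * t * m⁻¹) h2
      simpa [mul_assoc] using h5.symm
    exact fun y hy => (mem_centralizer_singleton_iff.1 (h1 hy)).symm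
  · obtain ⟨A, w, -, h1, h2⟩ := hgd i
    exact ⟨A, w, h1, h2⟩
  · exact hZV (ChoiceBase.mem_zc.2 ⟨lv.XS (hYX hy), elem_sq lv.elX y (hYX hy), hyS⟩)

end Cfsg.Agent.Omega.NOThreeL.RRed.BQ

end
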