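import Cfsg.Agent.Mrg.Omega.OM.SwapV.Q.CorOf
import Cfsg.Agent.Mrg.Omega.NOThreeL.RRed.WRunA
import Cfsg.Agent.Mrg.Omega.NOThreeL.RRed.WideTree
import Cfsg.Agent.Mrg.Omega.NOThreeL.RRed.NS.Spl
import Cfsg.Agent.Mrg.Omega.NOThreeL.RRed.LeftData
import Cfsg.Agent.Mrg.Omega.NOThreeL.RWide.DPNat
import Cfsg.Agent.Mrg.Omega.NOThreeL.RRed.Blk.AsmMv

section


/-!
# NO-3L, box R, natural blocks: the coordinates `CorA`, `SLA` from `NatBlk`

* **`corA_of`** : `NatBlk S D N l F e`, the elements of `S` normalising `l` normalise `N` and `D`; then suitable rescaled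
  coordinates satisfy `CorA` and `SLA`.
-/

set_option autoImplicit false
set_option linter.unusedSectionVars false

namespace Cfsg.Agent.Omega.NOThreeL.RRed.QFr

open Subgroup Cfsg Cfsg.Agent.ZN Cfsg.Agent.ZN.ChoiceBase
open Cfsg.Agent.Omega.OM.FourF (Act)
open Cfsg.Agent.Omega.OM.SwapV.Q (CorA)
open Cfsg.Agent.Omega.NOThreeL.RRed.WideTree (NatBlk)
open Cfsg.Agent.Omega.NOThreeL.RRed.Semi Cfsg.Agent.Omega.NOThreeL.RRed.GOne

universe u

variable {G : Type u} [Group G]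

theorem corA_of [Finite G] {S D N l : Subgroup G} {F : Type} [Field F] [Finite F] [CharP F 2] {e : G → Fin 2 → F}
    (hS : IsPGroup 2 S) (h : NatBlk S D N l F e) (hDN : D ≤ normalizer (N : Set G))
    (hsD : ∀ s ∈ S, cj s l = l → s ∈ normalizer (N : Set G) ∧ ∀ d ∈ D, s * d * s⁻¹ ∈ D) :
    ∃ e' : G → F × F, CorA F S N l e' ∧ SLA F D N e' := by
  classical
  choose w hwN hwe using h.sur
  have hinj : ∀ v ∈ N, ∀ v' ∈ N, e v = e v' → v = v' := fun v hv v' hv' he => natblk_inj h hv hv' he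
  -- the stabiliser of the line
  let T : Subgroup G :=
    { carrier := {s | s ∈ S ∧ cj s l = l}
      mul_mem' := by
        rintro a b ⟨ha, ha'⟩ ⟨hb, hb'⟩
        exact ⟨mul_mem ha hb, by rw [← cj_cj, hb', ha']⟩
      one_mem' := ⟨one_mem _, cj_one _⟩
      inv_mem' := by
        rintro a ⟨ha, ha'⟩
        exact ⟨inv_mem ha, by nth_rw 1 [← ha']; rw [cj_cj, inv_mul_cancel, cj_one]⟩ }
  have hT : IsPGroup 2 T := hS.to_le fun s hs => hs.1
  have hTN : ∀ t ∈ T, ∀ v ∈ N, t * v * t⁻¹ ∈ N := fun t ht v hv =>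
    (mem_normalizer_iff.1 (hsD t ht.1 ht.2).1 v).1 hv
  have hsemi : ∀ t ∈ T, ∃ (σ : F ≃+* F) (a b d : F), ∀ v ∈ N,
      e (t * v * t⁻¹) = ![a * σ (e v 0) + b * σ (e v 1), d * σ (e v 1)] := fun t ht =>
    natblk_semi' h (hsD t ht.1 ht.2).1 (hsD t ht.1 ht.2).2 hDN fun v hv => by
      have h1 : t * v * t⁻¹ ∈ cj t l := ⟨v, hv, rfl⟩
      rwa [ht.2] at h1
  -- fixed vectors
  have hf0 : ∃ y : Fin 1 → F, y ≠ 0 ∧ ∀ s : T, (fun _ : Fin 1 => e ((s : G) * w ![y 0, 0] * (s : G)⁻¹) 0) = y := by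
    refine OM.YThm.exists_fix_vec (F := F) (S₀ := T) one_pos hT
      (fun s y => fun _ : Fin 1 => e ((s : G) * w ![y 0, 0] * (s : G)⁻¹) 0) (fun y => ?_) (fun s t y => ?_) fun s => ?_
    · funext i
      show e (((1 : T) : G) * w ![y 0, 0] * ((1 : T) : G)⁻¹) 0 = y i
      rw [OneMemClass.coe_one, one_mul, inv_one, mul_one, hwe, Subsingleton.elim i 0]
      rfl
    · funext i
      show e (((s * t : T) : G) * w ![y 0, 0] * ((s * t : T) : G)⁻¹) 0 =
        e ((s : G) * w ![e ((t : G) * w ![y 0, 0] * (t : G)⁻¹) 0, 0] * (s : G)⁻¹) 0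
      have h1 : w ![e ((t : G) * w ![y 0, 0] * (t : G)⁻¹) 0, 0] = (t : G) * w ![y 0, 0] * (t : G)⁻¹ := by
        refine hinj _ (hwN _) _ (hTN t t.2 _ (hwN _)) ?_
        obtain ⟨σ, a, b, d, hσ⟩ := hsemi t t.2
        rw [hwe, hσ _ (hwN _), hwe]
        funext k
        fin_cases k <;> simp
      have e1 : ((s * t : T) : G) * w ![y 0, 0] * ((s * t : T) : G)⁻¹ =
          (s : G) * ((t : G) * w ![y 0, 0] * (t : G)⁻¹) * (s : G)⁻¹ := by
        rw [Subgroup.coe_mul]; group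
      rw [h1, e1]
    · funext i
      have h1 : w ![(0 : Fin 1 → F) 0, 0] = 1 := by
        refine hinj _ (hwN _) 1 (one_mem _) ?_
        rw [hwe]
        have h2 := h.mul 1 (one_mem _) 1 (one_mem _)
        rw [mul_one] at h2
        rw [left_eq_add.1 h2]
        funext k
        fin_cases k <;> rfl
      show e ((s : G) * w ![(0 : Fin 1 → F) 0, 0] * (s : G)⁻¹) 0 = (0 : Fin 1 → F) i
      have h2 := h.mul 1 (one_mem _) 1 (one_mem _)
      rw [mul_one] at h2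
      rw [h1, mul_one, mul_inv_cancel, left_eq_add.1 h2]
      rfl
  have hf1 : ∃ y : Fin 1 → F, y ≠ 0 ∧ ∀ s : T, (fun _ : Fin 1 => e ((s : G) * w ![0, y 0] * (s : G)⁻¹) 1) = y := by
    refine OM.YThm.exists_fix_vec (F := F) (S₀ := T) one_pos hT
      (fun s y => fun _ : Fin 1 => e ((s : G) * w ![0, y 0] * (s : G)⁻¹) 1) (fun y => ?_) (fun s t y => ?_) fun s => ?_
    · funext i
      show e (((1 : T) : G) * w ![0, y 0] * ((1 : T) : G)⁻¹) 1 = y i
      rw [OneMemClass.coe_one, one_mul, inv_one, mul_one, hwe, Subsingleton.elim i 0]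
      rfl
    · funext i
      show e (((s * t : T) : G) * w ![0, y 0] * ((s * t : T) : G)⁻¹) 1 =
        e ((s : G) * w ![0, e ((t : G) * w ![0, y 0] * (t : G)⁻¹) 1] * (s : G)⁻¹) 1
      obtain ⟨σ, a, b, d, hσ⟩ := hsemi s s.2
      have e1 : ((s * t : T) : G) * w ![0, y 0] * ((s * t : T) : G)⁻¹ =
          (s : G) * ((t : G) * w ![0, y 0] * (t : G)⁻¹) * (s : G)⁻¹ := by
        rw [Subgroup.coe_mul]; group
      rw [e1, hσ _ (hTN t t.2 _ (hwN _)), hσ _ (hwN _), hwe]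
      simp
    · funext i
      have h1 : w ![0, (0 : Fin 1 → F) 0] = 1 := by
        refine hinj _ (hwN _) 1 (one_mem _) ?_
        rw [hwe]
        have h2 := h.mul 1 (one_mem _) 1 (one_mem _)
        rw [mul_one] at h2
        rw [left_eq_add.1 h2]
        funext k
        fin_cases k <;> rfl
      show e ((s : G) * w ![0, (0 : Fin 1 → F) 0] * (s : G)⁻¹) 1 = (0 : Fin 1 → F) i
      have h2 := h.mul 1 (one_mem _) 1 (one_mem _)
      rw [mul_one] at h2
      rw [h1, mul_one, mul_inv_cancel, left_eq_add.1 h2]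
      rfl
  obtain ⟨y0, hy0, hfix0⟩ := hf0
  obtain ⟨y1, hy1, hfix1⟩ := hf1
  set z₀ := y0 0 with hz₀
  set f₀ := y1 0 with hf₀
  have hz : z₀ ≠ 0 := fun h0 => hy0 (funext fun i => by rw [Subsingleton.elim i 0]; exact h0)
  have hf : f₀ ≠ 0 := fun h0 => hy1 (funext fun i => by rw [Subsingleton.elim i 0]; exact h0)
  refine ⟨fun v => (z₀⁻¹ * e v 0, f₀⁻¹ * e v 1), ⟨fun v hv v' hv' => ?_, fun v hv v' hv' he => ?_, fun p => ?_,
    fun v => ?_, fun t ht htl => ?_⟩, ⟨fun g hg v hv => (mem_normalizer_iff.1 (hDN hg) v).1 hv, fun g hg => ?_,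
    fun a b c d hd => ?_⟩⟩
  · rw [h.mul v hv v' hv']
    ext
    · simp only [Pi.add_apply, Prod.fst_add]; ring
    · simp only [Pi.add_apply, Prod.snd_add]; ring
  · refine hinj v hv v' hv' ?_
    funext k
    fin_cases k
    · exact mul_left_cancel₀ (inv_ne_zero hz) (congrArg Prod.fst he)
    · exact mul_left_cancel₀ (inv_ne_zero hf) (congrArg Prod.snd he)
  · refine ⟨w ![z₀ * p.1, f₀ * p.2], hwN _, ?_⟩
    rw [hwe]
    ext
    · exact inv_mul_cancel_left₀ hz _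
    · exact inv_mul_cancel_left₀ hf _
  · rw [h.line]
    refine and_congr_right fun _ => ?_
    constructor
    · intro h1
      show f₀⁻¹ * e v 1 = 0
      rw [h1, mul_zero]
    · intro h1
      exact (mul_eq_zero.1 h1).resolve_left (inv_ne_zero hf)
  · have htT : t ∈ T := ⟨ht, htl⟩
    obtain ⟨σ, a, b, d, hσ⟩ := hsemi t htT
    have h1 : a * σ z₀ = z₀ := by
      have h2 := congrFun (hfix0 ⟨t, htT⟩) 0
      have h3 : e (t * w ![z₀, 0] * t⁻¹) 0 = z₀ := h2
      rw [hσ _ (hwN _), hwe] at h3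
      simpa using h3
    have h4 : d * σ f₀ = f₀ := by
      have h2 := congrFun (hfix1 ⟨t, htT⟩) 0
      have h3 : e (t * w ![0, f₀] * t⁻¹) 1 = f₀ := h2
      rw [hσ _ (hwN _), hwe] at h3
      simpa using h3
    refine ⟨σ, z₀⁻¹ * b * σ f₀, fun v hv => ?_⟩
    show (z₀⁻¹ * e (t * v * t⁻¹) 0, f₀⁻¹ * e (t * v * t⁻¹) 1) = _
    rw [hσ v hv]
    have hsz : σ z₀ ≠ 0 := fun h0 => hz ((map_eq_zero σ).1 h0)
    have hsf : σ f₀ ≠ 0 := fun h0 => hf ((map_eq_zero σ).1 h0)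
    ext
    · simp only [Matrix.cons_val_zero, map_mul, map_inv₀]
      field_simp
      linear_combination (σ (e v 0)) * h1
    · show f₀⁻¹ * (d * σ (e v 1)) = σ (f₀⁻¹ * e v 1)
      rw [map_mul, map_inv₀]
      field_simp
      linear_combination (σ (e v 1)) * h4
  · obtain ⟨A, hA⟩ := h.act g hg
    have hdet := A.2
    rw [Matrix.det_fin_two] at hdet
    refine ⟨A.1 0 0, z₀⁻¹ * A.1 0 1 * f₀, f₀⁻¹ * A.1 1 0 * z₀, A.1 1 1, ?_, fun v hv => ?_⟩
    · field_simp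
      linear_combination hdet
    · show (z₀⁻¹ * e (g * v * g⁻¹) 0, f₀⁻¹ * e (g * v * g⁻¹) 1) = _
      rw [hA v hv]
      ext
      · simp only [Matrix.mulVec, dotProduct, Fin.sum_univ_two]
        field_simp
      · simp only [Matrix.mulVec, dotProduct, Fin.sum_univ_two]
        field_simp
  · obtain ⟨g, hg, hA⟩ := h.full ⟨!![a, z₀ * b * f₀⁻¹; f₀ * c * z₀⁻¹, d], by
      rw [Matrix.det_fin_two_of]
      field_simp
      linear_combination hd⟩
    refine ⟨g, hg, fun v hv => ?_⟩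
    show (z₀⁻¹ * e (g * v * g⁻¹) 0, f₀⁻¹ * e (g * v * g⁻¹) 1) = _
    rw [hA v hv]
    ext
    · simp only [Matrix.mulVec, dotProduct, Fin.sum_univ_two, Matrix.of_apply, Matrix.cons_val', Matrix.cons_val_zero,
        Matrix.cons_val_one, Matrix.cons_val_fin_one]
      field_simp
    · simp only [Matrix.mulVec, dotProduct, Fin.sum_univ_two, Matrix.of_apply, Matrix.cons_val', Matrix.cons_val_zero,
        Matrix.cons_val_one, Matrix.cons_val_fin_one]
      field_simp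

end Cfsg.Agent.Omega.NOThreeL.RRed.QFr

end

section


/-!
# Offenders on `V*` are products of full root groups: the field `off` of `Bq` (helper540)

* `best_of` : the `Y`-form of 'best offender on `V`' restricts to `IsBestOffenderOn 2 W A`, `W ≤ V`;
* `RootOn.card` : `RootOn A N l`, `A` moves `N` ⟹ `|l| |C_A(N)| ≤ |A|`;
* **`off_of`** : `Src S N l q`, all `N b ≤ V` ⟹ the field `off` of `QFr.Bq`;
* `rootOn_of` : the same, `RootOn A (N i) (l i)`.
-/

set_option autoImplicit false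
set_option linter.unusedSectionVars false

namespace Cfsg.Agent.Omega.NOThreeL.RRed.QFr.OffOf

open Subgroup Cfsg Cfsg.Agent.ZN
open Cfsg.Agent.Omega.FFThm (ElemM)
open Cfsg.Agent.Omega.NO3S.ThmB (Nb)
open Cfsg.Agent.Omega.NO3S.KeyRad (blk)
open Cfsg.Agent.Omega.NOThreeL.RRed.WideTree
open Cfsg.Agent.Omega.NOThreeL.RWide (RootOn)
open Cfsg.Agent.Omega.NOThreeL.RWide

universe u

variable {G : Type u} [Group G] [Finite G]

theorem best_of {V W A : Subgroup G} (hWV : W ≤ V) (hA : ElemM V A)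
    (hb : ∀ Y : Subgroup G, Y ≤ V → Nat.card ↥(A ⊓ centralizer (Y : Set G)) * Nat.card Y ≤
      Nat.card A * Nat.card ↥(Y ⊓ centralizer (A : Set G))) : IsBestOffenderOn 2 W A := by
  refine ⟨fun B hB => ?_, ?_, fun a ha => centralizer_le hWV (hA.sq a ha)⟩
  · have h1 := hb (W ⊓ centralizer (B : Set G)) (inf_le_left.trans hWV)
    have h2 : Nat.card B ≤ Nat.card ↥(A ⊓ centralizer ((W ⊓ centralizer (B : Set G) : Subgroup G) : Set G)) :=
      card_le_of_le (le_inf hB fun b hb' => mem_centralizer_iff.2 fun w hw => (mem_centralizer_iff.1 hw.2 b hb').symm)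
    have h3 : Nat.card ↥(W ⊓ centralizer (B : Set G) ⊓ centralizer (A : Set G)) ≤
        Nat.card ↥(W ⊓ centralizer (A : Set G)) := card_le_of_le (inf_le_inf_right _ inf_le_left)
    exact (Nat.mul_le_mul_right _ h2).trans (h1.trans (Nat.mul_le_mul_left _ h3))
  · rw [commutator_le]
    intro a ha b hb'
    rw [commutatorElement_def]
    exact centralizer_le hWV (hA.comm a ha b hb')

theorem RootOn.card {A N l : Subgroup G} (h : RootOn A N l) (hne : ¬ A ≤ centralizer (N : Set G)) :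
    Nat.card l * Nat.card ↥(A ⊓ centralizer (N : Set G)) ≤ Nat.card A := by
  rcases h.full with h0 | h0
  · exact absurd h0 hne
  have h1 : ∃ v ∈ N, v ∉ l := by
    by_contra hcon
    push Not at hcon
    exact hne fun a ha => mem_centralizer_iff.2 fun v hv => (h.fixZ a ha v (hcon v hv)).symm
  obtain ⟨v, hv, hvl⟩ := h1
  obtain ⟨h2, h3⟩ := h0 v hv hvl
  choose f hf hfz using h2
  rw [← Nat.card_prod]
  refine Nat.card_le_card_of_injective (fun p : l × ↥(A ⊓ centralizer (N : Set G)) =>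
    (⟨f p.1 p.1.2 * p.2, mul_mem (hf _ _) p.2.2.1⟩ : A)) ?_
  rintro ⟨z, c⟩ ⟨z', c'⟩ heq
  have e1 : f z z.2 * (c : G) = f z' z'.2 * (c' : G) := congrArg Subtype.val heq
  have key : ∀ (x : l) (d : ↥(A ⊓ centralizer (N : Set G))),
      (f x x.2 * (d : G)) * v * (f x x.2 * (d : G))⁻¹ * v⁻¹ = x := by
    intro x d
    have h4 : (d : G) * v = v * d := (mem_centralizer_iff.1 d.2.2 v hv).symm
    have h5 : (f x x.2 * (d : G)) * v * (f x x.2 * (d : G))⁻¹ * v⁻¹ =
        f x x.2 * ((d : G) * v) * (d : G)⁻¹ * (f x x.2)⁻¹ * v⁻¹ := by group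
    rw [h5, h4]
    have h6 : f x x.2 * (v * (d : G)) * (d : G)⁻¹ * (f x x.2)⁻¹ * v⁻¹ = f x x.2 * v * (f x x.2)⁻¹ * v⁻¹ := by group
    rw [h6]
    exact hfz x x.2
  have e2 : z = z' := by
    apply Subtype.ext
    rw [← key z c, ← key z' c', e1]
  subst e2
  have e3 : (c : G) = c' := mul_left_cancel e1
  exact Prod.ext rfl (Subtype.ext e3)

variable {S : Sylow 2 G} {ι : Type u} {N l : ι → Subgroup G} {q : ι → ℕ} {V : Subgroup G}

theorem rootOn_of (hs : Src (S : Subgroup G) N l q) (NV : ∀ b, N b ≤ V) {A : Subgroup G} (hA : A ≤ (S : Subgroup G))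
    (hE : ElemM V A) (hb : ∀ Y : Subgroup G, Y ≤ V → Nat.card ↥(A ⊓ centralizer (Y : Set G)) * Nat.card Y ≤
      Nat.card A * Nat.card ↥(Y ⊓ centralizer (A : Set G))) (i : ι) : RootOn A (N i) (l i) ∧ Nat.card (l i) = q i := by
  obtain ⟨P, -, F, _, _, _, k, -, M, h, spl, ⟨j, h1, h2, h3⟩, h4⟩ := hs.mov i
  have hW : (⨆ a, blk M a) ≤ V := iSup_le fun a => by
    obtain ⟨c, hc, -⟩ := h4 a
    rw [← hc]; exact NV c
  rw [h1, h2, h3]
  exact ⟨PInst.ffp h spl hA (best_of hW hE hb) j, PNat.card_YY h spl j⟩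

/-- **the field `off` of `Bq`** -/
theorem off_of (hs : Src (S : Subgroup G) N l q) (NV : ∀ b, N b ≤ V) (A : Subgroup G) (hA : A ≤ (S : Subgroup G))
    (hE : ElemM V A) (hb : ∀ Y : Subgroup G, Y ≤ V → Nat.card ↥(A ⊓ centralizer (Y : Set G)) * Nat.card Y ≤
      Nat.card A * Nat.card ↥(Y ⊓ centralizer (A : Set G))) (i : ι) :
    A ≤ centralizer (N i : Set G) ∨ ((∀ a ∈ A, ∀ z ∈ l i, a * z = z * a) ∧
      (∀ a ∈ A, ∀ v ∈ N i, a * v * a⁻¹ * v⁻¹ ∈ l i) ∧
      q i * Nat.card ↥(A ⊓ centralizer (N i : Set G)) ≤ Nat.card A) := by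
  obtain ⟨h1, h2⟩ := rootOn_of hs NV hA hE hb i
  by_cases hne : A ≤ centralizer (N i : Set G)
  · exact Or.inl hne
  · refine Or.inr ⟨h1.fixZ, h1.comm, ?_⟩
    rw [← h2]
    exact RootOn.card h1 hne

end Cfsg.Agent.Omega.NOThreeL.RRed.QFr.OffOf

end

section


/-!
# A minimal exact offender on `V*` is the root group of one block (helper540; 553 #27581 (D), #27692 (2))

Over `NBs` + `Src` (WideTree v5):

* `no_S` : `NoOverM V* S`;
* `tt_of` : exact and minimal (in 553's form) ⟹ `Tt V* A`;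
* `best_of_exact` : exact + `NoOver` ⟹ best on all `Y ≤ V`;
* **`min_one`** : exactly one block `N b` is moved, `RootOn A (N b) (l b)`, `[V*, A] ≤ l b`;  **`comm_eq`** :
  `⁅V*, A⁆ = l b`.
-/

set_option autoImplicit false
set_option linter.unusedSectionVars false

namespace Cfsg.Agent.Omega.NOThreeL.RRed.QFr.MinOne

open Subgroup Cfsg Cfsg.Agent.ZN
open Cfsg.Agent.Omega.FFThm (ElemM NoOverM)
open Cfsg.Agent.Omega.NatPair (ap)
open Cfsg.Agent.Omega.NO3S.ThmB (Nb)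
open Cfsg.Agent.Omega.NO3S.KeyRad (blk)
open Cfsg.Agent.Omega.NOThreeL.Merge (MZ)
open Cfsg.Agent.Omega.NOThreeL.RTree (RB)
open Cfsg.Agent.Omega.NOThreeL.RRed.NS (Tt)
open Cfsg.Agent.Omega.NOThreeL.RRed.GlueSig
open Cfsg.Agent.Omega.NOThreeL.RRed.WideTree
open Cfsg.Agent.Omega.NOThreeL.RWide (RootOn)
open Cfsg.Agent.Omega.NOThreeL.RWide
open scoped Pointwise

universe u

variable {G : Type u} [Group G] [Finite G]

/-- exact + no over-offenders ⟹ best on all `Y ≤ V` -/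
theorem best_of_exact {V A T : Subgroup G} (hc : ∀ v ∈ V, ∀ w ∈ V, v * w = w * v) (no : NoOverM V T) (hA : A ≤ T)
    (hE : ElemM V A)
    (ex : Nat.card A * Nat.card ↥(V ⊓ centralizer (A : Set G)) = Nat.card V * Nat.card ↥(A ⊓ centralizer (V : Set G)))
    (Y : Subgroup G) (hY : Y ≤ V) : Nat.card ↥(A ⊓ centralizer (Y : Set G)) * Nat.card Y ≤
      Nat.card A * Nat.card ↥(Y ⊓ centralizer (A : Set G)) := by
  set B : Subgroup G := A ⊓ centralizer (Y : Set G) with hB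
  have hEB : ElemM V B := ⟨fun b hb => hE.sq b hb.1, fun b hb c hc => hE.comm b hb.1 c hc.1⟩
  have h1 := no B (inf_le_left.trans hA) hEB
  have h2 : B ⊓ centralizer (V : Set G) = A ⊓ centralizer (V : Set G) :=
    le_antisymm (inf_le_inf_right _ inf_le_left) fun x hx => ⟨⟨hx.1, centralizer_le hY hx.2⟩, hx.2⟩
  rw [h2, ← ex] at h1
  -- `Y C_V(A) ≤ C_V(B)`
  have h3 := OmThm.SideBase.card_sup_comm (A := Y) (B := V ⊓ centralizer (A : Set G)) fun a ha b hb =>
    hc a (hY ha) b hb.1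
  have h4 : Y ⊓ (V ⊓ centralizer (A : Set G)) = Y ⊓ centralizer (A : Set G) := by
    rw [← inf_assoc, inf_eq_left.2 hY]
  rw [h4] at h3
  have h5 : Nat.card ↥(Y ⊔ (V ⊓ centralizer (A : Set G))) ≤ Nat.card ↥(V ⊓ centralizer (B : Set G)) := by
    refine card_le_of_le (sup_le (le_inf hY fun y hy => mem_centralizer_iff.2 fun b hb =>
      (mem_centralizer_iff.1 hb.2 y hy).symm) (inf_le_inf_left _ (centralizer_le inf_le_left)))
  have hpos : 0 < Nat.card ↥(V ⊓ centralizer (A : Set G)) := Nat.card_pos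
  refine Nat.le_of_mul_le_mul_right (c := Nat.card ↥(V ⊓ centralizer (A : Set G))) ?_ hpos
  calc Nat.card B * Nat.card Y * Nat.card ↥(V ⊓ centralizer (A : Set G))
      = Nat.card B * (Nat.card ↥(Y ⊔ (V ⊓ centralizer (A : Set G))) * Nat.card ↥(Y ⊓ centralizer (A : Set G))) := by
        rw [h3, mul_assoc]
    _ ≤ Nat.card B * (Nat.card ↥(V ⊓ centralizer (B : Set G)) * Nat.card ↥(Y ⊓ centralizer (A : Set G))) :=
        Nat.mul_le_mul_left _ (Nat.mul_le_mul_right _ h5)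
    _ = Nat.card B * Nat.card ↥(V ⊓ centralizer (B : Set G)) * Nat.card ↥(Y ⊓ centralizer (A : Set G)) := by ring
    _ ≤ Nat.card A * Nat.card ↥(V ⊓ centralizer (A : Set G)) * Nat.card ↥(Y ⊓ centralizer (A : Set G)) :=
        Nat.mul_le_mul_right _ h1
    _ = Nat.card A * Nat.card ↥(Y ⊓ centralizer (A : Set G)) * Nat.card ↥(V ⊓ centralizer (A : Set G)) := by ring

/-- exact and minimal -/
theorem tt_of {V A T : Subgroup G} (no : NoOverM V T) (hA : A ≤ T) (hE : ElemM V A)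
    (hne : ¬ A ≤ centralizer (V : Set G))
    (ex : Nat.card A * Nat.card ↥(V ⊓ centralizer (A : Set G)) = Nat.card V * Nat.card ↥(A ⊓ centralizer (V : Set G)))
    (min : ∀ A' : Subgroup G, A' ≤ A → ¬ A' ≤ centralizer (V : Set G) →
      Nat.card A' * Nat.card ↥(V ⊓ centralizer (A' : Set G)) = Nat.card V * Nat.card ↥(A' ⊓ centralizer (V : Set G)) →
        A ≤ A' ⊔ (A ⊓ centralizer (V : Set G))) : Tt V A where
  elem := hE
  ne := hne
  off := ex.ge
  min B h1 h2 h3 h4 := by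
    have hEB : ElemM V B := ⟨fun b hb => hE.sq b (h2 hb), fun b hb c hc => hE.comm b (h2 hb) c (h2 hc)⟩
    have h5 := no B (h2.trans hA) hEB
    have h6 : B ⊓ centralizer (V : Set G) = A ⊓ centralizer (V : Set G) :=
      le_antisymm (inf_le_inf_right _ h2) (le_inf h1 inf_le_right)
    refine lt_of_le_of_ne (h5.trans (by rw [h6, ex])) fun h7 => h3 (le_antisymm h2 ?_)
    refine (min B h2 h4 (by rw [h7, ex, h6])).trans (sup_le le_rfl h1)

variable {S : Sylow 2 G} {ι : Type u} {N E D l : ι → Subgroup G} {q : ι → ℕ}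

theorem no_S [Nonempty ι] (B : RB S) (hs : Src (S : Subgroup G) N l q) :
    NoOverM (Wd (S : Subgroup G)) (S : Subgroup G) := by
  obtain ⟨b⟩ := ‹Nonempty ι›
  obtain ⟨P, hP, -⟩ := hs.mov b
  exact fun A hA hE => Blk.AsmMv.no_of B hP A (hA.trans (WLeft.S_le_MZ B)) hE

theorem min_one (B : RB S) (h : NBs (S : Subgroup G) N E D l q) (hs : Src (S : Subgroup G) N l q)
    {A : Subgroup G} (hA : A ≤ (S : Subgroup G))
    (t : Tt (Wd (S : Subgroup G)) A) : ∃ b, ¬ A ≤ centralizer (N b : Set G) ∧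
      (∀ c, c ≠ b → A ≤ centralizer (N c : Set G)) ∧ RootOn A (N b) (l b) ∧ Nat.card (l b) = q b ∧
        ∀ a ∈ A, ∀ v ∈ Wd (S : Subgroup G), a * v * a⁻¹ * v⁻¹ ∈ l b := by
  have hU2 := NS.elem_Wd B
  have hsup : (⨆ b, N b) = Wd (S : Subgroup G) := by rw [← h.dec.sup, sup_bot_eq]
  have ind := LeftData.dec_indep h.dec
  obtain ⟨b, hb⟩ : ∃ b, ¬ A ≤ centralizer (N b : Set G) := by
    by_contra hcon
    push Not at hcon
    apply t.ne
    rw [le_centralizer_iff, ← hsup]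
    exact iSup_le fun b => by
      rw [le_centralizer_iff]; exact hcon b
  obtain ⟨P, hP, F, _, _, _, k, -, M, h', spl, ⟨j, h1, h2, h3⟩, h4⟩ := hs.mov b
  have hPM : P ≤ MZ (S : Subgroup G) := le_sSup hP.1
  have hVU : zl (S : Subgroup G) P ≤ Wd (S : Subgroup G) :=
    MinSimple.VModule.zl_le (MinSimple.VModule.zc_le_zl _ _) (hPM.trans (MinSimple.VModule.le_normalizer_zl _ _))
  have hjV : blk M j ≤ zl (S : Subgroup G) P := (NO3S.KeyRad.blk_le h' j)
  have hne : ¬ A ≤ centralizer (zl (S : Subgroup G) P : Set G) := fun h0 =>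
    hb (h0.trans (centralizer_le (h1 ▸ hjV)))
  obtain ⟨i, O⟩ := t.one h' hU2 hVU hA hne
  have hR : RootOn A (blk M i) (NS.YY h' i) := PNat.rootOn h' spl hA (t.offM hU2 hVU hne) i
  -- `i = j`
  have hij : i = j := by
    by_contra hij
    apply hb
    intro a ha
    obtain ⟨β, hβ⟩ := O.act a ha
    rw [h1]
    exact mem_centralizer_iff.2 fun v hv => (PNat.DP_cent h' spl (Ne.symm hij)
      (⟨h'.SP' (hA ha), _, hβ⟩ : a ∈ PNat.DP h' i) hv).symm
  subst hij
  have hcomm : ∀ a ∈ A, ∀ v ∈ Wd (S : Subgroup G), a * v * a⁻¹ * v⁻¹ ∈ l b := by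
    intro a ha v hv
    obtain ⟨w, hw, hw0, c, hc, hca, rfl⟩ := O.full v hv
    have h5 : a * (w * c) * a⁻¹ * (w * c)⁻¹ = a * w * a⁻¹ * w⁻¹ := by
      have h6 := hca a ha
      calc a * (w * c) * a⁻¹ * (w * c)⁻¹ = a * w * (c * a⁻¹) * c⁻¹ * w⁻¹ := by group
        _ = a * w * (a⁻¹ * c) * c⁻¹ * w⁻¹ := by
          have h7 : c * a⁻¹ = a⁻¹ * c := by
            calc c * a⁻¹ = a⁻¹ * (a * c) * a⁻¹ := by group
              _ = a⁻¹ * (c * a) * a⁻¹ := by rw [h6]
              _ = a⁻¹ * c := by group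
          rw [h7]
        _ = a * w * a⁻¹ * w⁻¹ := by group
    rw [h5, h2]
    obtain ⟨β, hβ⟩ := O.act a ha
    have haP := h'.SP' (hA ha)
    refine ⟨NO3S.KeyRad.mem_blk haP hβ hw, ?_⟩
    rw [h'.e_div (h'.memV haP hw) hw, Pi.add_apply, Pi.add_apply, hβ.1 w hw i, NO3S.ThmB.sg_self, NO3S.ThmB.ap_up_1]
    exact CharTwo.add_self_eq_zero _
  refine ⟨b, hb, fun c hc => ?_, by rw [h1, h2]; exact hR, ?_, hcomm⟩
  · -- the other blocks
    intro a ha
    have haM : a ∈ MZ (S : Subgroup G) := WLeft.S_le_MZ B (hA ha)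
    have hlN : l b ≤ N b := by rw [h1, h2]; exact NS.YY_le h' i
    have hNW : ∀ d, N d ≤ Wd (S : Subgroup G) := fun d => by rw [← hsup]; exact le_iSup N d
    obtain ⟨c', hc', -⟩ := h.perm a haM c
    have key : ∀ x ∈ N c, a * x * a⁻¹ ∈ N c' := fun x hx => by
      rw [← hc']; exact ⟨x, hx, rfl⟩
    have h6 : c' = c := by
      by_contra hne'
      apply h.dec.ne c
      rw [eq_bot_iff]
      intro x hx
      have h7 := hlN (hcomm a ha x (hNW c hx))
      have h8 : x ∈ ⨆ (d) (_ : d ≠ c), N d := by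
        have e : x = (a * x * a⁻¹ * x⁻¹)⁻¹ * (a * x * a⁻¹) := by group
        rw [e]
        exact mul_mem (inv_mem ((le_iSup₂_of_le b (Ne.symm hc) le_rfl : N b ≤ ⨆ (d) (_ : d ≠ c), N d) h7))
          ((le_iSup₂_of_le c' hne' le_rfl : N c' ≤ ⨆ (d) (_ : d ≠ c), N d) (key x hx))
      exact (disjoint_iff_inf_le.1 (ind c)) ⟨hx, h8⟩
    subst h6
    refine mem_centralizer_iff.2 fun x hx => ?_
    have h7 := hlN (hcomm a ha x (hNW _ hx))
    have h8 : a * x * a⁻¹ * x⁻¹ ∈ N c' := mul_mem (key x hx) (inv_mem hx)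
    have h9 := (disjoint_iff_inf_le.1 (ind c')) ⟨h8, (le_iSup₂_of_le b (Ne.symm hc) le_rfl :
      N b ≤ ⨆ (d) (_ : d ≠ c'), N d) h7⟩
    rw [mem_bot] at h9
    calc x * a = (a * x * a⁻¹ * x⁻¹)⁻¹ * (a * x) := by group
      _ = a * x := by rw [h9]; group
  · rw [h2, h3]; exact PNat.card_YY h' spl i

theorem comm_eq {V A N' l' : Subgroup G} (hNV : N' ≤ V) (hR : RootOn A N' l')
    (hne : ¬ A ≤ centralizer (N' : Set G)) (hc : ∀ a ∈ A, ∀ v ∈ V, a * v * a⁻¹ * v⁻¹ ∈ l') : ⁅V, A⁆ = l' := by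
  apply le_antisymm
  · rw [commutator_le]
    intro v hv a ha
    rw [commutatorElement_def]
    have e : v * a * v⁻¹ * a⁻¹ = (a * v * a⁻¹ * v⁻¹)⁻¹ := by group
    rw [e]
    exact inv_mem (hc a ha v hv)
  · intro z hz
    rcases hR.full with h0 | h0
    · exact absurd h0 hne
    have h1 : ∃ v ∈ N', v ∉ l' := by
      by_contra hcon
      push Not at hcon
      exact hne fun a ha => mem_centralizer_iff.2 fun v hv => (hR.fixZ a ha v (hcon v hv)).symm
    obtain ⟨v, hv, hvl⟩ := h1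
    obtain ⟨f, hf, hfz⟩ := (h0 v hv hvl).1 z⁻¹ (inv_mem hz)
    have e : z = v * f * v⁻¹ * f⁻¹ := by
      calc z = (f * v * f⁻¹ * v⁻¹)⁻¹ := by rw [hfz, inv_inv]
        _ = v * f * v⁻¹ * f⁻¹ := by group
    have h2 := commutator_mem_commutator (hNV hv) hf
    rw [commutatorElement_def] at h2
    rw [e]
    exact h2

end Cfsg.Agent.Omega.NOThreeL.RRed.QFr.MinOne

end
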