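import Cfsg.Agent.Mrg.Omega.OM.SwapV.Q.CorOf
import Cfsg.Agent.Mrg.Omega.NOThreeL.RRed.BFr.Plug
import Cfsg.Agent.Mrg.Omega.NOThreeL.RRed.WideTree
import Cfsg.Agent.Mrg.Omega.SQT.LettQ

section


/-!
# NO-3L, box R, natural blocks, one class: a level which moves `V*` moves all blocks (#24972 (3), #25584 (N7))

`B : RB S`, `b : Bq S (MZ S) (Wd S) N D l C q`, `V* = Wd S`.

* `off_of_best` : a best offender in the form of `Bq.off`; `Bq.fix` : the best offenders normalise all `N i`;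
* `wd_le_zc_lev` : `lev S n ≤ C(V*)` implies `V* ≤ Ω₁Z(lev S n)`;
* `exists_stage` : `J(S)` moves `V*`, or `V* ≤ Ω₁Z(lev S n)` and `lev S (n+1)` moves `V*`, or no level moves `V*`;
* **`mv_neg`, `mv_lev`** : then every block is moved by a member of `𝒜(S)` resp. of `bo S (Ω₁Z(lev S n))`;
* **`lvQ_neg`, `lvQ_lev`** : the level data `LvQ`.
-/

set_option autoImplicit false
set_option linter.unusedSectionVars false

namespace Cfsg.Agent.Omega.NOThreeL.RRed.QFr

open Subgroup Cfsg Cfsg.Agent.ZN.ChoiceBase Cfsg.Agent.Omega.MinPar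
open Cfsg.Agent.ZN (jj zj bau zc zl o2)
open Cfsg.Agent.Omega.FFThm (ElemM)
open Cfsg.Agent.Omega.NO3S.OneLine (BFam bo bo_fam bo_eq)
open Cfsg.Agent.Omega.NO3S.Level (lev lev_isLev nxt BO bfam_BO)
open Cfsg.Agent.Omega.NOThreeL.Merge (MZ le_MZ S_le_MZ)
open Cfsg.Agent.Omega.NOThreeL.RTree (RB)
open Cfsg.Agent.Omega.NOThreeL.RRed (Wd)
open Cfsg.Agent.Omega.NOThreeL.RRed.HypJOf (Fx mem_fx par_move norm_jj wd_le)
open Cfsg.Agent.PLocal.ElemAbSup (card_sup_mul_card_inf)

open scoped Pointwise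

universe u

variable {G : Type u} [Group G]

/-- best offenders in the form of `Bq.off` -/
theorem off_of_best [Finite G] {V A : Subgroup G} (hV : ∀ x ∈ V, ∀ y ∈ V, x * y = y * x)
    (hb : ∀ B : Subgroup G, A ⊓ centralizer (V : Set G) ≤ B → B ≤ A →
      Nat.card B * Nat.card ↥(V ⊓ centralizer (B : Set G)) ≤ Nat.card A * Nat.card ↥(V ⊓ centralizer (A : Set G))) :
    ∀ Y ≤ V, Nat.card ↥(A ⊓ centralizer (Y : Set G)) * Nat.card Y ≤
      Nat.card A * Nat.card ↥(Y ⊓ centralizer (A : Set G)) := by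
  intro Y hY
  have h1 := hb (A ⊓ centralizer (Y : Set G)) (inf_le_inf_left _ (centralizer_le hY)) inf_le_left
  have h2 : Y ⊔ (V ⊓ centralizer (A : Set G)) ≤
      V ⊓ centralizer ((A ⊓ centralizer (Y : Set G) : Subgroup G) : Set G) := by
    refine sup_le (le_inf hY fun y hy => mem_centralizer_iff.2 fun a ha => ?_)
      (inf_le_inf_left _ (centralizer_le inf_le_left))
    exact (mem_centralizer_iff.1 ha.2 y hy).symm
  have h3 : V ⊓ centralizer (A : Set G) ≤ centralizer (Y : Set G) := fun v hv =>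
    mem_centralizer_iff.2 fun y hy => hV y (hY hy) v hv.1
  have h4 := card_sup_mul_card_inf h3
  have e : Y ⊓ (V ⊓ centralizer (A : Set G)) = Y ⊓ centralizer (A : Set G) := by
    rw [← inf_assoc, inf_eq_left.2 hY]
  rw [e] at h4
  have h5 := card_le_of_le h2
  have hp : 0 < Nat.card ↥(V ⊓ centralizer (A : Set G)) := Nat.card_pos
  refine Nat.le_of_mul_le_mul_right (c := Nat.card ↥(V ⊓ centralizer (A : Set G))) ?_ hp
  calc Nat.card ↥(A ⊓ centralizer (Y : Set G)) * Nat.card Y * Nat.card ↥(V ⊓ centralizer (A : Set G))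
      = Nat.card ↥(A ⊓ centralizer (Y : Set G)) * (Nat.card Y * Nat.card ↥(V ⊓ centralizer (A : Set G))) := by ring
    _ = Nat.card ↥(A ⊓ centralizer (Y : Set G)) * (Nat.card ↥(Y ⊔ (V ⊓ centralizer (A : Set G))) *
        Nat.card ↥(Y ⊓ centralizer (A : Set G))) := by rw [h4]
    _ ≤ Nat.card ↥(A ⊓ centralizer (Y : Set G)) *
        (Nat.card ↥(V ⊓ centralizer ((A ⊓ centralizer (Y : Set G) : Subgroup G) : Set G)) *
        Nat.card ↥(Y ⊓ centralizer (A : Set G))) := Nat.mul_le_mul_left _ (Nat.mul_le_mul_right _ h5)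
    _ = Nat.card ↥(A ⊓ centralizer (Y : Set G)) *
        Nat.card ↥(V ⊓ centralizer ((A ⊓ centralizer (Y : Set G) : Subgroup G) : Set G)) *
        Nat.card ↥(Y ⊓ centralizer (A : Set G)) := by ring
    _ ≤ Nat.card A * Nat.card ↥(V ⊓ centralizer (A : Set G)) * Nat.card ↥(Y ⊓ centralizer (A : Set G)) :=
        Nat.mul_le_mul_right _ h1
    _ = _ := by ring

namespace Bq

variable {ι : Type} {S : Sylow 2 G} {M V : Subgroup G} {N D l C : ι → Subgroup G} {q : ℕ} (b : Bq S M V N D l C q)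
include b

/-- **Best offenders fix all blocks.** -/
theorem fix {A : Subgroup G} (hAS : A ≤ (S : Subgroup G)) (hE : ElemM V A)
    (hb : ∀ Y ≤ V, Nat.card ↥(A ⊓ centralizer (Y : Set G)) * Nat.card Y ≤
      Nat.card A * Nat.card ↥(Y ⊓ centralizer (A : Set G))) (i : ι) : A ≤ normalizer (N i : Set G) := by
  rcases b.off A hAS hE hb i with h1 | ⟨-, h1, -⟩
  · exact h1.trans (centralizer_le_normalizer _)
  · have key : ∀ a ∈ A, ∀ v ∈ N i, a * v * a⁻¹ ∈ N i := fun a ha v hv => by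
      have h2 := mul_mem (b.lN i (h1 a ha v hv)) hv
      rwa [inv_mul_cancel_right] at h2
    intro a ha
    rw [mem_normalizer_iff]
    intro v
    refine ⟨fun hv => key a ha v hv, fun hv => ?_⟩
    have h2 := key a⁻¹ (inv_mem ha) _ hv
    have e : a⁻¹ * (a * v * a⁻¹) * a⁻¹⁻¹ = v := by group
    rwa [e] at h2

/-- a subgroup which moves `V` moves a block -/
theorem exists_mv {J : Subgroup G} (hJ : ¬ J ≤ centralizer (V : Set G)) : ∃ i, ¬ J ≤ centralizer (N i : Set G) := by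
  by_contra hcon
  push Not at hcon
  refine hJ fun g hg => mem_centralizer_iff.2 fun v hv => ?_
  exact (b.cent_V (g := g) (fun i w hw => (mem_centralizer_iff.1 (hcon i hg) w hw).symm) v hv).symm

end Bq

section box

variable [Finite G] {S : Sylow 2 G}

theorem wd_sq (B : RB S) : ∀ x ∈ Wd (S : Subgroup G), x ^ 2 = 1 := by
  intro x hx
  exact zl_MZ_sq B.ctx.char2 B.data.noff x hx

/-- If `lev S n` centralises `V*` then `V* ≤ Ω₁Z(lev S n)`. -/
theorem wd_le_zc_lev (B : RB S) {n : ℕ}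
    (hn : lev (S : Subgroup G) n ≤ centralizer (Wd (S : Subgroup G) : Set G)) :
    Wd (S : Subgroup G) ≤ zc (lev (S : Subgroup G) n) := by
  intro v hv
  have hc : ∀ y ∈ lev (S : Subgroup G) n, y * v = v * y := fun y hy => (mem_centralizer_iff.1 (hn hy) v hv).symm
  exact (lev_isLev (S : Subgroup G) n).mem_of_comm (wd_le B hv) (wd_sq B v hv) hc

/-- **The stage.** -/
theorem exists_stage (B : RB S) :
    ¬ jj (S : Subgroup G) ≤ centralizer (Wd (S : Subgroup G) : Set G) ∨
    (∃ n, Wd (S : Subgroup G) ≤ zc (lev (S : Subgroup G) n) ∧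
      ¬ lev (S : Subgroup G) (n + 1) ≤ centralizer (Wd (S : Subgroup G) : Set G)) ∨
    ∀ n, lev (S : Subgroup G) n ≤ centralizer (Wd (S : Subgroup G) : Set G) := by
  classical
  by_cases hall : ∀ n, lev (S : Subgroup G) n ≤ centralizer (Wd (S : Subgroup G) : Set G)
  · exact Or.inr (Or.inr hall)
  · push Not at hall
    have h1 := Nat.find_spec hall
    have h2 := fun m (hm : m < Nat.find hall) => Nat.find_min hall hm
    rcases hm : Nat.find hall with _ | m
    · rw [hm] at h1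
      exact Or.inl h1
    · rw [hm] at h1
      refine Or.inr (Or.inl ⟨m, wd_le_zc_lev B (not_not.1 (h2 m (by omega))), h1⟩)

/-- `V* ≤ Ω₁Z(J(C_S(V*)))` -/
theorem wd_le_X (B : RB S) : Wd (S : Subgroup G) ≤
    zc (jj ((S : Subgroup G) ⊓ centralizer (Wd (S : Subgroup G) : Set G))) := by
  intro v hv
  have hsq : v ^ 2 = 1 := wd_sq B v hv
  have hcm : ∀ y ∈ (S : Subgroup G) ⊓ centralizer (Wd (S : Subgroup G) : Set G), y * v = v * y := fun y hy =>
    (mem_centralizer_iff.1 hy.2 v hv).symm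
  have h1 : v ∈ (S : Subgroup G) ⊓ centralizer (Wd (S : Subgroup G) : Set G) :=
    ⟨wd_le B hv, Merge.zl_MZ_comm B.ctx B.data.noff hv⟩
  have h2 : ∀ y ∈ jj ((S : Subgroup G) ⊓ centralizer (Wd (S : Subgroup G) : Set G)), y * v = v * y := fun y hy =>
    hcm y (jj_le _ hy)
  exact mem_zc.2 ⟨mem_jj_of_comm h1 hsq h2, hsq, h2⟩

variable {ι : Type} {N D l C : ι → Subgroup G} {q : ℕ}
  (B : RB S) (b : Bq S (MZ (S : Subgroup G)) (Wd (S : Subgroup G)) N D l C q)
include B b

theorem mv_blocks {J : Subgroup G} (hJS : J ≤ (S : Subgroup G)) (hJn : (S : Subgroup G) ≤ normalizer (J : Set G))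
    (hJF : ∀ i, J ≤ normalizer (N i : Set G))
    (hJP : ∀ P, IsParS (S : Subgroup G) P → J ≤ o2 P → P ≤ normalizer (J : Set G))
    (hJ : ¬ J ≤ centralizer (Wd (S : Subgroup G) : Set G)) : ∀ i, ¬ J ≤ centralizer (N i : Set G) := by
  have hSM := S_le_MZ B.ctx B.full
  have hperm : ∀ g ∈ MZ (S : Subgroup G), ∀ i, ∃ j, MulAut.conj g • N i = N j := fun g hg i => by
    obtain ⟨c, hc, -⟩ := b.perm g hg i
    exact ⟨c, hc⟩
  have hF : J ≤ Fx (MZ (S : Subgroup G)) N := fun g hg => mem_fx.2 ⟨hSM (hJS hg), fun i => hJF i hg⟩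
  refine NOThreeL.RWide.LemM.mv_all (PP := {P | IsParS (S : Subgroup G) P}) hperm ?_ b.tr (b.exists_mv hJ)
  intro P hP
  exact par_move hperm hP (le_MZ hP) hF hJS hJn (hJP P hP)

/-- **Stage `-1`**: all blocks are moved. -/
theorem mv_neg (hj : ¬ jj (S : Subgroup G) ≤ centralizer (Wd (S : Subgroup G) : Set G)) (i : ι) :
    ∃ A ∈ AA (S : Subgroup G), ¬ A ≤ centralizer (N i : Set G) := by
  have hcV : ∀ x ∈ Wd (S : Subgroup G), ∀ y ∈ Wd (S : Subgroup G), x * y = y * x := fun x hx y hy => b.Vc hx hy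
  have hfam := NO3S.Level.bfam_AA (L := (⊤ : Subgroup G)) b.el (wd_le B)
  have hfix : ∀ i, jj (S : Subgroup G) ≤ normalizer (N i : Set G) := by
    intro i
    rw [jj_eq]
    exact sSup_le fun A hA => b.fix hA.2.1 (hfam.elem A hA) (off_of_best hcV (hfam.best A hA)) i
  have h1 := mv_blocks B b (jj_le _) (le_normalizer.trans (normalizer_le_jj _)) hfix
    (fun P hP hle => norm_jj hP hle) hj i
  by_contra hcon
  push Not at hcon
  refine h1 ?_
  rw [jj_eq]
  exact sSup_le hcon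

/-- **Stage `n`**: all blocks are moved. -/
theorem mv_lev {n : ℕ} (hX : Wd (S : Subgroup G) ≤ zc (lev (S : Subgroup G) n))
    (hn : ¬ lev (S : Subgroup G) (n + 1) ≤ centralizer (Wd (S : Subgroup G) : Set G)) (i : ι) :
    ∃ A ∈ bo (S : Subgroup G) (zc (lev (S : Subgroup G) n)), ¬ A ≤ centralizer (N i : Set G) := by
  have hcV : ∀ x ∈ Wd (S : Subgroup G), ∀ y ∈ Wd (S : Subgroup G), x * y = y * x := fun x hx y hy => b.Vc hx hy
  have hfam := bfam_BO (S := (S : Subgroup G)) (L := ⊥) hX bot_le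
  have hC : (S : Subgroup G) ⊓ centralizer (zc (lev (S : Subgroup G) n) : Set G) ≤
      centralizer (Wd (S : Subgroup G) : Set G) := inf_le_right.trans (centralizer_le hX)
  have hfix : ∀ i, lev (S : Subgroup G) (n + 1) ≤ normalizer (N i : Set G) := by
    intro i
    refine sup_le (hC.trans ((centralizer_le (b.NV i)).trans (centralizer_le_normalizer _))) (sSup_le fun A hA => ?_)
    exact b.fix hA.1 (hfam.elem A hA) (off_of_best hcV (hfam.best A hA)) i
  have h0 := (lev_isLev (S : Subgroup G) (n + 1)).norm (S : Subgroup G) (NO3S.Level.lev_le _ _) le_rfl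
  have h1 := mv_blocks B b (NO3S.Level.lev_le _ _) (le_normalizer.trans h0)
    hfix (fun P hP hle => (MinSimple.VModule.le_normalizer_o2 P).trans
      ((lev_isLev (S : Subgroup G) (n + 1)).norm (o2 P) hle (hP.isLoc.o2_le S))) hn i
  by_contra hcon
  push Not at hcon
  refine h1 (sup_le (hC.trans (centralizer_le (b.NV i))) (sSup_le fun A hA => hcon A ?_))
  rw [← bo_eq]
  exact hA

/-- **The level data, stage `-1`.** -/
theorem lvQ_neg (hj : ¬ jj (S : Subgroup G) ≤ centralizer (Wd (S : Subgroup G) : Set G)) (hne : Nonempty ι) :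
    LvQ S (MZ (S : Subgroup G)) (Wd (S : Subgroup G)) N
      (zc (jj ((S : Subgroup G) ⊓ centralizer (Wd (S : Subgroup G) : Set G)))) ⊤ (jj (S : Subgroup G))
      (AA (S : Subgroup G)) where
  ML := le_top
  fam := BFr.Bd.bfam_AA _ (BFr.zc_elem _) fun x hx => (jj_le _ (mem_zc.1 hx).1).1
  elX := BFr.zc_elem _
  VX := wd_le_X B
  XS := fun x hx => (jj_le _ (mem_zc.1 hx).1).1
  MX g hg x hx := (mem_normalizer_iff.1 (NO3S.Level.normalizer_le_zc _ (normalizer_le_jj _ (BFr.MZ_norm_Q B hg))) x).1 hx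
  AJ A hA := le_jj hA
  JS := jj_le _
  Jg := by
    rw [jj_eq]
    exact le_sup_left
  mv := by
    obtain ⟨i⟩ := hne
    exact ⟨i, mv_neg B b hj i⟩

/-- **The level data, stage `n`.** -/
theorem lvQ_lev {n : ℕ} (hX : Wd (S : Subgroup G) ≤ zc (lev (S : Subgroup G) n))
    (hn : ¬ lev (S : Subgroup G) (n + 1) ≤ centralizer (Wd (S : Subgroup G) : Set G)) (hne : Nonempty ι) :
    LvQ S (MZ (S : Subgroup G)) (Wd (S : Subgroup G)) N (zc (lev (S : Subgroup G) n))
      (normalizer (zc (lev (S : Subgroup G) n) : Set G)) (lev (S : Subgroup G) (n + 1))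
      (bo (S : Subgroup G) (zc (lev (S : Subgroup G) n))) where
  ML := (BFr.MZ_norm_lev B hX).trans (NO3S.Level.normalizer_le_zc _)
  fam := bo_fam _ _
  elX := BFr.zc_elem _
  VX := hX
  XS := fun x hx => NO3S.Level.lev_le _ _ (mem_zc.1 hx).1
  MX g hg x hx := (mem_normalizer_iff.1 (NO3S.Level.normalizer_le_zc _ (BFr.MZ_norm_lev B hX hg)) x).1 hx
  AJ A hA := NO3S.Level.BO.le_nxt (by rw [bo_eq]; exact hA)
  JS := NO3S.Level.lev_le _ _
  Jg := by
    show nxt _ _ ≤ _
    rw [nxt, bo_eq]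
    exact sup_le ((inf_le_inf_left _ (centralizer_le hX)).trans le_sup_right) le_sup_left
  mv := by
    obtain ⟨i⟩ := hne
    exact ⟨i, mv_lev B b hX hn i⟩

end box

end Cfsg.Agent.Omega.NOThreeL.RRed.QFr

end

section


/-!
# The socket `WOneS` of `RRed/WideTree`: `𝔽₂`-blocks, one class (#25504 row 11, #27497 (4))

* `count_of` : `V*` irreducible for `M₀`, `|Z| ≥ 4`: at least three light pairs (`|I| + 5 ≤ Σ |Om i|`);
* `TopS K B` : the remaining socket: all levels `lev S n` centralise `V*`;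
* **`wOneS_of`** : (ML), EXT and `TopS K B` imply `WOneS K B`.
-/

set_option autoImplicit false
set_option linter.unusedSectionVars false

namespace Cfsg.Agent.Omega.NOThreeL.RRed.WideTree

open Subgroup Cfsg Cfsg.Agent.ZN Cfsg.Agent.Omega.MinPar Cfsg.Agent.Omega.Frame Cfsg.Agent.Omega.FrameNOFF
open Cfsg.Agent.Omega.Node.NO3L Cfsg.Agent.Omega.NOThreeL.Basic Cfsg.Agent.Omega.NOThreeL.RTree
open Cfsg.Agent.Omega.NOThreeL.RTreeF
open Cfsg.Agent.Omega.NOThreeL.Merge (MZ S_le_MZ)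
open Cfsg.Agent.Omega.NOThreeL.RZ (RR)
open Cfsg.Agent.Omega.NOThreeL.RRed.GlueSig
open Cfsg.Agent.Omega.NOThreeL.RRed.FourTree (Bks LevX nxtX HypJ)
open Cfsg.Agent.Omega.NOThreeL.RRed.TvFin (Full)
open Cfsg.Agent.Omega.NOThreeL.RRed.HypJOf (hypJ_of trans_of_irr)
open Cfsg.Agent.Omega.NO3S.Level (lev Lev lev_isLev normalizer_le_zc)
open Cfsg.Agent.Omega.SQT.WideS (sylR KK mem_KK exists_swap_blocks eq_of_two card_le_two eq_of_one)
open Cfsg.Agent.Omega.SQT.LettQ (two)

open scoped Pointwise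

universe u

section count

variable {G : Type u} [Group G] [Finite G] {S : Sylow 2 G} {M V : Subgroup G} {I : Type u} [Fintype I]
  {N E : I → Subgroup G} {Om : I → Type u} [∀ i, Fintype (Om i)] [∀ i, DecidableEq (Om i)] {phi : ∀ i, Finset (Om i) → G}

/-- **At least three light pairs.** -/
theorem count_of (F : Full (S : Subgroup G) M V N E ⊥ Om phi) (hne : Nonempty I)
    (hirr : ∀ b, M ≤ normalizer (N b : Set G) → V ≤ N b) {Z : Subgroup G} (hZV : Z ≤ V)
    (hZS : ∀ z ∈ Z, ∀ s ∈ (S : Subgroup G), s * z * s⁻¹ = z) (h4 : 4 ≤ Nat.card Z) :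
    Fintype.card I + 5 ≤ ∑ i, Fintype.card (Om i) := by
  classical
  by_contra hlt
  push Not at hlt
  have hD := F.toDec
  have h3 : Fintype.card I * 3 ≤ ∑ i, Fintype.card (Om i) := by
    have h := Finset.sum_le_sum (s := (Finset.univ : Finset I)) fun i _ => F.three i
    rwa [Finset.sum_const, Finset.card_univ, smul_eq_mul] at h
  have hle : ∀ b, Fintype.card (Om b) + (Fintype.card I - 1) * 3 ≤ ∑ i, Fintype.card (Om i) := by
    intro b
    rw [← Finset.add_sum_erase _ _ (Finset.mem_univ b)]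
    refine Nat.add_le_add_left ?_ _
    have h := Finset.sum_le_sum (s := (Finset.univ : Finset I).erase b) fun i _ => F.three i
    rwa [Finset.sum_const, Finset.card_erase_of_mem (Finset.mem_univ b), Finset.card_univ, smul_eq_mul] at h
  obtain ⟨b⟩ := hne
  have hI0 : 0 < Fintype.card I := Fintype.card_pos_iff.2 ⟨b⟩
  have hodd := (F.lett b).odd
  have hb := hle b
  have h3b := F.three b
  by_cases hI : ∀ x, x = b
  · have hZN : Z ≤ N b := hZV.trans (eq_of_one hD hI).le
    have hcI : Fintype.card I = 1 := Fintype.card_eq_one_iff.2 ⟨b, hI⟩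
    have h35 : Fintype.card (Om b) = 3 ∨ Fintype.card (Om b) = 5 := by
      obtain ⟨k, hk⟩ := hodd
      omega
    obtain ⟨z, hz⟩ := two (F.lett b) (sylR hD b) h35
    have := card_le_two (Z := Z) (z0 := z) fun x hx => hz x (hZN hx) fun t ht => hZS x hx t (mem_inf.1 ht).1
    omega
  · push Not at hI
    obtain ⟨c, hcb⟩ := hI
    have hc2 : 1 < Fintype.card I := Fintype.one_lt_card_iff.2 ⟨b, c, hcb.symm⟩
    have hcI : Fintype.card I = 2 := by omega
    have h3b' : Fintype.card (Om b) = 3 := by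
      obtain ⟨k, hk⟩ := hodd
      omega
    have hall : ∀ x, x = b ∨ x = c := by
      intro x
      by_contra hx
      push Not at hx
      have h1 : ({b, c, x} : Finset I).card ≤ Fintype.card I := Finset.card_le_univ _
      have h2 : ({b, c, x} : Finset I).card = 3 := Finset.card_eq_three.2 ⟨b, c, x, hcb.symm, hx.1.symm, hx.2.symm, rfl⟩
      omega
    have hmv : ∃ g ∈ M, g ∉ KK M N b := by
      by_contra hno
      push Not at hno
      have h1 : M ≤ normalizer (N b : Set G) := fun g hg => (mem_inf.1 (hno g hg)).2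
      have h2 := hirr b h1
      apply hD.ne c
      rw [eq_bot_iff, ← hD.ind c]
      exact le_inf le_rfl (((hD.NU c).trans h2).trans (hD.N_le_Co hcb.symm))
    obtain ⟨s, hs, hsK⟩ := exists_swap_blocks hD hcb.symm hall hmv
    obtain ⟨z0, hz0⟩ := two (F.lett b) (sylR hD b) (Or.inl h3b')
    have h2 : Nat.card Z ≤ 2 := by
      by_cases hZ1 : ∃ x ∈ Z, x ≠ 1
      · obtain ⟨x, hx, x1⟩ := hZ1
        refine card_le_two (z0 := x) fun y hy => ?_
        by_cases hy1 : y = 1
        · exact Or.inl hy1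
        · exact Or.inr (eq_of_two hD hcb.symm hall rfl hs hsK hz0 (hZV hy) (hZV hx) (hZS y hy) (hZS x hx) hy1 x1)
      · push Not at hZ1
        exact card_le_two (z0 := 1) fun y hy => Or.inl (hZ1 y hy)
    omega

end count

section mv

variable {G : Type u} [Group G] [Finite G] {S : Sylow 2 G} {I : Type u} [Fintype I] [DecidableEq I]
  {N E : I → Subgroup G} {Om : I → Type u} [∀ i, Fintype (Om i)] [∀ i, DecidableEq (Om i)]
  {phi : ∀ i, Finset (Om i) → G}

/-- a subgroup of `S` of this kind which moves `V*` moves all blocks -/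
theorem mv_of (hN : Bks S N E ⊥ Om phi)
    (tr : ∀ b c, ∃ g ∈ MZ (S : Subgroup G), MulAut.conj g • N b = N c) {J : Subgroup G} (h1 : J ≤ (S : Subgroup G))
    (h2 : (S : Subgroup G) ≤ normalizer (J : Set G)) (h3 : J ≤ HypJOf.Fx (MZ (S : Subgroup G)) N)
    (h4 : ∀ P, IsParS (S : Subgroup G) P → J ≤ o2 P → P ≤ normalizer (J : Set G))
    (h5 : ¬ J ≤ centralizer (Wd (S : Subgroup G) : Set G)) (b : I) : ¬ J ≤ centralizer (N b : Set G) := by
  have hperm : ∀ g ∈ MZ (S : Subgroup G), ∀ b, ∃ c, MulAut.conj g • N b = N c := fun g hg b => by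
    obtain ⟨c, hc, -⟩ := hN.toDec.perm g hg b
    exact ⟨c, hc⟩
  have hsup : (⨆ b, N b) = Wd (S : Subgroup G) := by
    have := hN.toDec.sup
    rwa [sup_bot_eq] at this
  have hmv : ∃ b, ¬ J ≤ centralizer (N b : Set G) := by
    by_contra hcon
    push Not at hcon
    apply h5
    rw [le_centralizer_iff, ← hsup]
    exact iSup_le fun b => le_centralizer_iff.1 (hcon b)
  refine RWide.LemM.mv_all (PP := {P | IsParS (S : Subgroup G) P}) hperm ?_ tr hmv b
  intro P hP
  exact HypJOf.par_move hperm hP (Merge.le_MZ hP) h3 h1 h2 (h4 P hP)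

/-- `J(S)` moves all blocks if it moves `V*`. -/
theorem mv_jj (R : RB S) (hN : Bks S N E ⊥ Om phi)
    (tr : ∀ b c, ∃ g ∈ MZ (S : Subgroup G), MulAut.conj g • N b = N c)
    (hj : ¬ jj (S : Subgroup G) ≤ centralizer (Wd (S : Subgroup G) : Set G)) :
    ∀ b, ¬ jj (S : Subgroup G) ≤ centralizer (N b : Set G) := by
  have hab : ∀ x ∈ Wd (S : Subgroup G), ∀ y ∈ Wd (S : Subgroup G), x * y = y * x := fun x hx y hy =>
    hN.toDec.ucomm hx hy
  refine mv_of hN tr (ChoiceBase.jj_le _) (le_normalizer.trans (ChoiceBase.normalizer_le_jj _)) ?_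
    (fun P hP h => HypJOf.norm_jj hP h) hj
  rw [ChoiceBase.jj_eq]
  refine sSup_le fun A hA => ?_
  exact HypJOf.best_le_fx hN.toFull (HypJOf.ofd_of hA.2.1 (S_le_MZ R.ctx R.full)
    (HypJOf.best_of_AA hab (zl_MZ_sq R.ctx.char2 R.data.noff) (HypJOf.wd_le R) hA)) le_rfl hab

/-- A level which moves `V*` moves all blocks. -/
theorem mv_nxtX (R : RB S) (hN : Bks S N E ⊥ Om phi)
    (tr : ∀ b c, ∃ g ∈ MZ (S : Subgroup G), MulAut.conj g • N b = N c) {K X : Subgroup G}
    (hKX : LevX (S : Subgroup G) K X)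
    (hj : ¬ nxtX (S : Subgroup G) X ≤ centralizer (Wd (S : Subgroup G) : Set G)) :
    ∀ b, ¬ nxtX (S : Subgroup G) X ≤ centralizer (N b : Set G) := by
  have hSM := S_le_MZ R.ctx R.full
  refine mv_of hN tr (HypJOf.nxtX_le _ _) ?_ ?_
    (fun P hP h => HypJOf.norm_nxtX hP ((Merge.le_MZ hP).trans hKX.MX) h) hj
  · exact HypJOf.norm_nxtX_of (hSM.trans hKX.MX) fun g hg x hx =>
      mul_mem (mul_mem hg (HypJOf.nxtX_le _ _ hx)) (inv_mem hg)
  · have hXc : ∀ x ∈ X, ∀ y ∈ X, x * y = y * x := fun x hx y hy =>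
      MinSimple.VModule.zc_comm _ _ (hKX.Xle hx) _ (hKX.Xle hy)
    refine sup_le ?_ (sSup_le fun A hA => HypJOf.best_le_fx hN.toFull (HypJOf.ofd_of hA.1 hSM hA.2) hKX.VX hXc)
    rintro c ⟨hcS, hcX⟩
    refine HypJOf.mem_fx.2 ⟨hSM hcS, fun b => ?_⟩
    exact hN.toDec.EN b (hN.toDec.CE b ⟨hSM hcS, centralizer_le hKX.VX hcX⟩)

end mv

section socket

variable (K : Cls.{u}) (B : Fr.{u})

/-- `𝔽₂`-blocks, one class, all levels `lev S n` (`lev S 0 = J(S)`) centralise `V*` -/
def TopS : Prop :=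
  ∀ (G : Type u) [Group G] [Finite G], K G → ∀ (S : Sylow 2 G), B G S → Wide S → MvAct (S : Subgroup G) →
    CM (S : Subgroup G) (fun _ : PUnit.{u + 1} => Wd (S : Subgroup G)) →
      ∀ (I : Type u) [Fintype I] [DecidableEq I] (N E : I → Subgroup G) (Om : I → Type u)
        [∀ i, Fintype (Om i)] [∀ i, DecidableEq (Om i)] (phi : ∀ i, Finset (Om i) → G), Bks S N E ⊥ Om phi →
          (∀ b c, ∃ g ∈ MZ (S : Subgroup G), MulAut.conj g • N b = N c) →
          Fintype.card I + 5 ≤ ∑ i, Fintype.card (Om i) →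
          (∀ n, lev (S : Subgroup G) n ≤ centralizer (Wd (S : Subgroup G) : Set G)) → False

end socket

variable {K : Cls.{u}} {B : Fr.{u}}

/-- **`WOneS` from its last socket.** -/
theorem wOneS_of (hML : ML.Final.MLK.{u, u}) (hE : ML.Ex.Two.Ext.{u, u}) (hT : TopS K B) : WOneS K B := by
  intro G _ _ hK S hB hW hm hCM I _ _ N E Om _ _ phi hN
  exfalso
  have hR : RB S := hW.toRB
  have hirr : ∀ W : Subgroup G, W ≤ Wd (S : Subgroup G) → MZ (S : Subgroup G) ≤ normalizer (W : Set G) → W ≠ ⊥ →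
      Wd (S : Subgroup G) ≤ W := fun W h1 h2 h3 => hCM.irr PUnit.unit W h1 h2 h3
  have tr := trans_of_irr hN.toDec hirr
  have hcnt : Fintype.card I + 5 ≤ ∑ i, Fintype.card (Om i) := by
    refine count_of hN.toFull hN.nonempty (fun b hb => hirr _ (hN.toDec.NU b) hb (hN.toDec.ne b))
      (MinSimple.VModule.zc_le_zl _ _) (fun z hz s hs => ?_) hW.four_le
    have h1 : s * z = z * s := (ChoiceBase.mem_zc.1 hz).2.2 s hs
    rw [h1]; group
  rcases QFr.exists_stage hR with h1 | ⟨n, h1, h2⟩ | h1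
  · exact BFr.false_neg hML hE hR hN (mv_jj hR hN tr h1) hcnt
  · have hX : LevX (S : Subgroup G) (lev (S : Subgroup G) n) (zc (lev (S : Subgroup G) n)) :=
      { toLev := lev_isLev (S : Subgroup G) n
        Xle := le_rfl
        Xn := normalizer_le_zc _
        VX := h1
        MX := (BFr.MZ_norm_lev hR h1).trans (normalizer_le_zc _) }
    exact BFr.false_lev hML hE hR hN h1 (mv_nxtX hR hN tr hX h2) hcnt
  · exact hT G hK S hB hW hm hCM I N E Om phi hN tr hcnt h1

end Cfsg.Agent.Omega.NOThreeL.RRed.WideTree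

end
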